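import Cfsg.Agent.H12.Equivalent
import Cfsg.Agent.H12.Linear
import Cfsg.Agent.H12.Orth

/-!
Tools for complex representations of finite groups (helper28): invariant subspaces, eigenspaces,
and images with a normal Sylow subgroup.
-/

set_option autoImplicit false
set_option linter.unusedSectionVars false
set_option linter.style.haveILetI false
set_option maxHeartbeats 200000

namespace H28.SmallDeg

open Module

universe u

/-- An element of `p`-power order. -/
def IsPel (p : ℕ) {G : Type u} [Group G] (x : G) : Prop := ∃ k : ℕ, x ^ p ^ k = 1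

section Pel

variable {G : Type u} [Group G] {p : ℕ}

theorem IsPel.map {H : Type*} [Group H] {x : G} (h : IsPel p x) (f : G →* H) : IsPel p (f x) := by
  obtain ⟨k, hk⟩ := h
  exact ⟨k, by rw [← map_pow, hk, map_one]⟩

theorem IsPel.conj {x : G} (h : IsPel p x) (g : G) : IsPel p (g * x * g⁻¹) :=
  h.map (MulAut.conj g).toMonoidHom

theorem IsPel.pow {x : G} (h : IsPel p x) (n : ℕ) : IsPel p (x ^ n) := by
  obtain ⟨k, hk⟩ := h
  exact ⟨k, by rw [← pow_mul, mul_comm, pow_mul, hk, one_pow]⟩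

theorem isPel_of_pow_p {x : G} (h : x ^ p = 1) : IsPel p x := ⟨1, by rw [pow_one, h]⟩

theorem isPel_of_mem {H : Subgroup G} (hH : IsPGroup p H) {x : G} (hx : x ∈ H) : IsPel p x := by
  obtain ⟨k, hk⟩ := hH ⟨x, hx⟩
  exact ⟨k, congrArg Subtype.val hk⟩

theorem isPel_coe_iff {H : Subgroup G} {x : H} : IsPel p (x : G) ↔ IsPel p x :=
  ⟨fun ⟨k, hk⟩ => ⟨k, Subtype.ext hk⟩, fun h => h.map H.subtype⟩

theorem IsPel.zpowers [hp : Fact p.Prime] {x : G} (h : IsPel p x) :
    IsPGroup p (Subgroup.zpowers x) := by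
  obtain ⟨k, hk⟩ := h
  obtain ⟨j, -, hj⟩ := (Nat.dvd_prime_pow hp.out).1 (orderOf_dvd_of_pow_eq_one hk)
  exact IsPGroup.of_card (n := j) (by rw [Nat.card_zpowers, hj])

theorem IsPel.exists_sylow [Fact p.Prime] {x : G} (h : IsPel p x) :
    ∃ P : Sylow p G, x ∈ (P : Subgroup G) :=
  h.zpowers.exists_le_sylow.imp fun _ hP => hP (Subgroup.mem_zpowers x)

theorem mem_of_normal [Finite G] [Fact p.Prime] {P : Sylow p G} (hn : (P : Subgroup G).Normal)
    {x : G} (h : IsPel p x) : x ∈ (P : Subgroup G) := by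
  obtain ⟨Q, hQ⟩ := h.exists_sylow
  haveI := Sylow.unique_of_normal P hn
  exact (Subsingleton.elim Q P) ▸ hQ

theorem le_sylow_of_normal [Finite G] [Fact p.Prime] {N : Subgroup G} [N.Normal]
    (hN : IsPGroup p N) (P : Sylow p G) : N ≤ (P : Subgroup G) := by
  obtain ⟨Q, hQ⟩ := hN.exists_le_sylow
  obtain ⟨g, hg⟩ := MulAction.exists_smul_eq G Q P
  intro x hx
  rw [← hg, Sylow.coe_subgroup_smul]
  exact ⟨g⁻¹ * x * g⁻¹⁻¹, hQ (Subgroup.Normal.conj_mem inferInstance x hx g⁻¹),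
    by simp [mul_assoc]⟩

theorem normal_of_forall_mem {P : Sylow p G} (h : ∀ x : G, IsPel p x → x ∈ (P : Subgroup G)) :
    (P : Subgroup G).Normal :=
  ⟨fun x hx g => h _ ((isPel_of_mem P.isPGroup' hx).conj g)⟩

/-- Every `p`-element is a power of a coset of a normal subgroup. -/
theorem exists_pel_preimage [Finite G] [hp : Fact p.Prime] {H : Type*} [Group H] (f : G →* H)
    {g : G} (hg : IsPel p (f g)) : ∃ y, IsPel p y ∧ f y = f g := by
  obtain ⟨k, hk⟩ := hg
  obtain ⟨a, q, hq, he⟩ := Nat.exists_eq_pow_mul_and_not_dvd (orderOf_pos g).ne' p hp.out.ne_one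
  have hcop : Nat.Coprime q (p ^ k) :=
    Nat.Coprime.pow_right k (hp.out.coprime_iff_not_dvd.2 hq).symm
  obtain ⟨c, hc⟩ := exists_pow_eq_self_of_coprime
    (x := f g) (n := q) (Nat.Coprime.coprime_dvd_right (orderOf_dvd_of_pow_eq_one hk) hcop)
  refine ⟨(g ^ q) ^ c, ⟨a, ?_⟩, by rw [map_pow, map_pow, hc]⟩
  rw [← pow_mul, ← pow_mul, show q * (c * p ^ a) = orderOf g * c by rw [he]; ring, pow_mul,
    pow_orderOf_eq_one, one_pow]

end Pel

variable {G : Type u} [Group G] {V : Type} [AddCommGroup V] [Module ℂ V]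

/-- An invariant subspace. -/
def Inv (ρ : Representation ℂ G V) (W : Submodule ℂ V) : Prop := ∀ g, ∀ v ∈ W, ρ g v ∈ W

/-- The representation on an invariant subspace. -/
noncomputable def res (ρ : Representation ℂ G V) (W : Submodule ℂ V) (hW : Inv ρ W) :
    Representation ℂ G W :=
  (⟨W, fun g _ hv => hW g _ hv⟩ : Subrepresentation ρ).toRepresentation

theorem res_apply {ρ : Representation ℂ G V} {W : Submodule ℂ V} (hW : Inv ρ W) (g : G) (v : W) :
    ((res ρ W hW g v : W) : V) = ρ g v := rfl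

theorem res_eq_one_iff {ρ : Representation ℂ G V} {W : Submodule ℂ V} (hW : Inv ρ W) {g : G} :
    res ρ W hW g = 1 ↔ ∀ v ∈ W, ρ g v = v := by
  constructor
  · intro h v hv
    exact congrArg Subtype.val (LinearMap.congr_fun h ⟨v, hv⟩)
  · intro h
    exact LinearMap.ext fun v => Subtype.ext (h v v.2)

theorem irr_cases (ρ : Representation ℂ G V) [ρ.IsIrreducible] {W : Submodule ℂ V}
    (hW : Inv ρ W) : W = ⊥ ∨ W = ⊤ := by
  rcases eq_bot_or_eq_top (⟨W, fun g _ hv => hW g _ hv⟩ : Subrepresentation ρ) with h | h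
  · exact Or.inl (congrArg Subrepresentation.toSubmodule h :)
  · exact Or.inr (congrArg Subrepresentation.toSubmodule h :)

theorem irr_mk (ρ : Representation ℂ G V) [Nontrivial V]
    (h : ∀ W, Inv ρ W → W = ⊥ ∨ W = ⊤) : ρ.IsIrreducible := by
  haveI : Nontrivial (Subrepresentation ρ) :=
    ⟨⊥, ⊤, fun he => bot_ne_top (α := Submodule ℂ V)
      (congrArg Subrepresentation.toSubmodule he)⟩
  refine IsSimpleOrder.mk fun a => ?_
  rcases h a.toSubmodule fun g v hv => a.apply_mem_toSubmodule g hv with h' | h'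
  · exact Or.inl (Subrepresentation.toSubmodule_injective h')
  · exact Or.inr (Subrepresentation.toSubmodule_injective h')

variable [FiniteDimensional ℂ V]

theorem exists_compl [Finite G] (ρ : Representation ℂ G V) {W : Submodule ℂ V} (hW : Inv ρ W) :
    ∃ W', Inv ρ W' ∧ IsCompl W W' := by
  obtain ⟨b, hb⟩ := H12.exists_isCompl_subrep ρ ⟨W, fun g _ hv => hW g _ hv⟩
  exact ⟨b.toSubmodule, fun g v hv => b.apply_mem_toSubmodule g hv, hb⟩

theorem inv_top (ρ : Representation ℂ G V) : Inv ρ ⊤ := fun _ _ _ => trivial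

/-- The image of `ρ` has a normal Sylow subgroup. -/
def SN (p : ℕ) (ρ : Representation ℂ G V) : Prop :=
  ∃ M : Subgroup G, M.Normal ∧ (∀ x, IsPel p x → x ∈ M) ∧ ∀ m ∈ M, ∃ k, ρ (m ^ p ^ k) = 1

section Sylow

variable [Finite G] {p : ℕ} [hp : Fact p.Prime]

theorem normal_of_SN {ρ : Representation ℂ G V} (hf : ∀ g, ρ g = 1 → g = 1) (h : SN p ρ)
    (P : Sylow p G) : (P : Subgroup G).Normal := by
  obtain ⟨M, hMn, hM1, hM2⟩ := h
  haveI := hMn
  have hMp : IsPGroup p M := fun m => by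
    obtain ⟨k, hk⟩ := hM2 m m.2
    exact ⟨k, Subtype.ext (hf _ hk)⟩
  exact normal_of_forall_mem fun x hx => le_sylow_of_normal hMp P (hM1 x hx)

theorem SN_of_normal (ρ : Representation ℂ G V) (K : Subgroup G) [K.Normal]
    (hK : ∀ k ∈ K, ρ k = 1) {P : Sylow p (G ⧸ K)} (h : (P : Subgroup (G ⧸ K)).Normal) :
    SN p ρ := by
  refine ⟨(P : Subgroup (G ⧸ K)).comap (QuotientGroup.mk' K), h.comap _, fun x hx =>
    mem_of_normal h (hx.map (QuotientGroup.mk' K)), fun m hm => ?_⟩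
  obtain ⟨k, hk⟩ := P.isPGroup' ⟨_, hm⟩
  refine ⟨k, hK _ ((QuotientGroup.eq_one_iff _).1 ?_)⟩
  exact congrArg Subtype.val hk

theorem SN_of_sup {ρ : Representation ℂ G V} {W : Submodule ℂ V} (hW : Inv ρ W)
    {A B : Submodule ℂ V} (hA : Inv ρ A) (hB : Inv ρ B) (hle : W ≤ A ⊔ B)
    (ha : SN p (res ρ A hA)) (hb : SN p (res ρ B hB)) : SN p (res ρ W hW) := by
  obtain ⟨M, hMn, hM1, hM2⟩ := ha
  obtain ⟨N, hNn, hN1, hN2⟩ := hb
  haveI := hMn; haveI := hNn
  refine ⟨M ⊓ N, inferInstance, fun x hx => ⟨hM1 x hx, hN1 x hx⟩, fun m hm => ?_⟩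
  obtain ⟨i, hi⟩ := hM2 m hm.1
  obtain ⟨j, hj⟩ := hN2 m hm.2
  refine ⟨i + j, (res_eq_one_iff hW).2 fun v hv => ?_⟩
  obtain ⟨a, ha, b, hb, rfl⟩ := Submodule.mem_sup.1 (hle hv)
  rw [map_add]
  congr 1
  · refine (res_eq_one_iff hA).1 ?_ a ha
    rw [pow_add, pow_mul, map_pow (res ρ A hA), hi, one_pow]
  · refine (res_eq_one_iff hB).1 ?_ b hb
    rw [pow_add, mul_comm, pow_mul, map_pow (res ρ B hB), hj, one_pow]

theorem SN_bot {ρ : Representation ℂ G V} (h : Inv ρ ⊥) : SN p (res ρ ⊥ h) :=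
  ⟨⊤, inferInstance, fun _ _ => trivial, fun _ _ => ⟨0, (res_eq_one_iff h).2 fun v hv => by
    rw [(Submodule.mem_bot ℂ).1 hv, map_zero]⟩⟩

/-- A non-normal image has an irreducible constituent with non-normal image. -/
theorem exists_big (ρ : Representation ℂ G V) {W : Submodule ℂ V} (hW : Inv ρ W)
    (h : ¬ SN p (res ρ W hW)) :
    ∃ (U : Submodule ℂ V) (hU : Inv ρ U), U ≤ W ∧ (res ρ U hU).IsIrreducible ∧
      ¬ SN p (res ρ U hU) := by
  classical
  have hex : ∃ n, ∃ (U : Submodule ℂ V) (hU : Inv ρ U), U ≤ W ∧ ¬ SN p (res ρ U hU) ∧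
      finrank ℂ U = n := ⟨_, W, hW, le_rfl, h, rfl⟩
  obtain ⟨U, hU, hUW, hns, hn⟩ := Nat.find_spec hex
  refine ⟨U, hU, hUW, ?_, hns⟩
  have hU0 : U ≠ ⊥ := by
    rintro rfl
    exact hns (SN_bot hU)
  haveI : Nontrivial U := Submodule.nontrivial_iff_ne_bot.2 hU0
  refine irr_mk _ fun A hA => ?_
  by_contra hne
  push Not at hne
  set A' := A.map U.subtype with hA'
  have hA'i : Inv ρ A' := by
    rintro g _ ⟨v, hv, rfl⟩
    exact ⟨res ρ U hU g v, hA g v hv, rfl⟩
  obtain ⟨B, hBi, hAB⟩ := exists_compl ρ hA'i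
  have hA'U : A' ≤ U := Submodule.map_subtype_le _ _
  have hBU : Inv ρ (B ⊓ U) := fun g v hv => ⟨hBi g v hv.1, hU g v hv.2⟩
  have hsup : U ≤ A' ⊔ B ⊓ U := by
    rw [← sup_inf_assoc_of_le B hA'U, hAB.sup_eq_top, top_inf_eq]
  have hA'ne : A' ≠ ⊥ := fun h0 => hne.1
    (Submodule.map_injective_of_injective U.injective_subtype (by rw [← hA', h0, Submodule.map_bot]))
  have hA'lt : A' < U := lt_of_le_of_ne hA'U fun h0 => hne.2
    (Submodule.map_injective_of_injective U.injective_subtype (by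
      rw [← hA', h0, Submodule.map_subtype_top]))
  have hBlt : B ⊓ U < U := by
    refine lt_of_le_of_ne inf_le_right fun h0 => hA'ne ?_
    exact le_bot_iff.1 (hAB.inf_eq_bot ▸ le_inf le_rfl (hA'U.trans (h0 ▸ inf_le_left)))
  have hsmall : ∀ (X : Submodule ℂ V) (hX : Inv ρ X), X < U → SN p (res ρ X hX) := by
    intro X hX hlt
    by_contra hnX
    exact Nat.find_min hex (hn ▸ Submodule.finrank_lt_finrank_of_lt hlt)
      ⟨X, hX, hlt.le.trans hUW, hnX, rfl⟩
  exact hns (SN_of_sup hU hA'i hBU hsup (hsmall _ hA'i hA'lt) (hsmall _ hBU hBlt))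

end Sylow

/-- The eigenspace. -/
noncomputable abbrev eig (ρ : Representation ℂ G V) (x : G) (c : ℂ) : Submodule ℂ V :=
  Module.End.eigenspace (ρ x) c

theorem mem_eig {ρ : Representation ℂ G V} {x : G} {c : ℂ} {v : V} :
    v ∈ eig ρ x c ↔ ρ x v = c • v := Module.End.mem_eigenspace_iff

theorem finrank_eig_res {ρ : Representation ℂ G V} {W : Submodule ℂ V} (hW : Inv ρ W) (x : G)
    (c : ℂ) : finrank ℂ (eig (res ρ W hW) x c) = finrank ℂ ↥(eig ρ x c ⊓ W) := by
  have : (eig (res ρ W hW) x c).map W.subtype = eig ρ x c ⊓ W := by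
    ext v
    constructor
    · rintro ⟨w, hw, rfl⟩
      exact ⟨mem_eig.2 (congrArg Subtype.val (mem_eig.1 hw)), w.2⟩
    · rintro ⟨hv, hvW⟩
      exact ⟨⟨v, hvW⟩, mem_eig.2 (Subtype.ext (mem_eig.1 hv)), rfl⟩
  exact (Submodule.finrank_map_subtype_eq _ _).symm.trans
    (LinearEquiv.ofEq _ _ this).finrank_eq

theorem finrank_inf_ge (E W : Submodule ℂ V) :
    finrank ℂ E + finrank ℂ W ≤ finrank ℂ V + finrank ℂ ↥(E ⊓ W) := by
  rw [← Submodule.finrank_sup_add_finrank_inf_eq]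
  exact Nat.add_le_add_right (Submodule.finrank_le _) _

theorem eig_conj (ρ : Representation ℂ G V) (g x : G) (c : ℂ) :
    finrank ℂ (eig ρ (g * x * g⁻¹) c) = finrank ℂ (eig ρ x c) := by
  have hinv : ∀ v, ρ g⁻¹ (ρ g v) = v := fun v => by
    rw [← Module.End.mul_apply, ← map_mul, inv_mul_cancel, map_one, Module.End.one_apply]
  have hinv' : ∀ v, ρ g (ρ g⁻¹ v) = v := fun v => by
    rw [← Module.End.mul_apply, ← map_mul, mul_inv_cancel, map_one, Module.End.one_apply]
  have hinj : Function.Injective (ρ g) := Function.LeftInverse.injective hinv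
  have : (eig ρ x c).map (ρ g) = eig ρ (g * x * g⁻¹) c := by
    ext v
    constructor
    · rintro ⟨w, hw, rfl⟩
      refine mem_eig.2 ?_
      rw [map_mul, map_mul, Module.End.mul_apply, Module.End.mul_apply, hinv, mem_eig.1 hw,
        map_smul]
    · intro hv
      refine ⟨ρ g⁻¹ v, mem_eig.2 ?_, hinv' v⟩
      have h := congrArg (ρ g⁻¹) (mem_eig.1 hv)
      rw [map_mul, map_mul, Module.End.mul_apply, Module.End.mul_apply, hinv, map_smul] at h
      exact h
  exact ((Submodule.equivMapOfInjective _ hinj (eig ρ x c)).trans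
    (LinearEquiv.ofEq _ _ this)).finrank_eq.symm

theorem iSup_eig [Finite G] (ρ : Representation ℂ G V) (x : G) : ⨆ c, eig ρ x c = ⊤ := by
  have hss := (H12.isSemisimple_of_pow_eq_one (orderOf_pos x).ne'
    (H12.rep_pow_orderOf ρ x)).isFinitelySemisimple
  have h := Module.End.iSup_maxGenEigenspace_eq_top (ρ x)
  simpa only [hss.maxGenEigenspace_eq_eigenspace] using h

/-- Operators commuting with `x` act by scalars on a line which is an eigenspace of `x`. -/
theorem exists_scalar_on_line {ρ : Representation ℂ G V} {x s : G} (h : s * x = x * s) {c : ℂ}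
    (h1 : finrank ℂ (eig ρ x c) ≤ 1) : ∃ μ : ℂ, ∀ v ∈ eig ρ x c, ρ s v = μ • v := by
  obtain ⟨v₀, hv₀⟩ := finrank_le_one_iff.1 h1
  have hmem : ρ s v₀ ∈ eig ρ x c := by
    refine mem_eig.2 ?_
    rw [← Module.End.mul_apply, ← map_mul, ← h, map_mul, Module.End.mul_apply,
      mem_eig.1 v₀.2, map_smul]
  obtain ⟨μ, hμ⟩ := hv₀ ⟨_, hmem⟩
  refine ⟨μ, fun v hv => ?_⟩
  obtain ⟨a, ha⟩ := hv₀ ⟨v, hv⟩
  have ha' : a • (v₀ : V) = v := congrArg Subtype.val ha
  have hμ' : μ • (v₀ : V) = ρ s v₀ := congrArg Subtype.val hμ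
  rw [← ha', map_smul, ← hμ', smul_comm]

theorem commute_on_line {ρ : Representation ℂ G V} {x s t : G} (hs : s * x = x * s)
    (ht : t * x = x * t) {c : ℂ} (h1 : finrank ℂ (eig ρ x c) ≤ 1) {v : V} (hv : v ∈ eig ρ x c) :
    ρ (s * t) v = ρ (t * s) v := by
  obtain ⟨a, ha⟩ := exists_scalar_on_line hs h1
  obtain ⟨b, hb⟩ := exists_scalar_on_line ht h1
  rw [map_mul, map_mul, Module.End.mul_apply, Module.End.mul_apply, hb v hv, ha v hv, map_smul,
    map_smul, ha v hv, hb v hv, smul_comm]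

theorem mem_center_of_scalar {ρ : Representation ℂ G V} (hf : ∀ g, ρ g = 1 → g = 1) {x : G}
    {c : ℂ} (h : ∀ v, ρ x v = c • v) : x ∈ Subgroup.center G := by
  refine Subgroup.mem_center_iff.2 fun g => mul_inv_eq_one.1 (hf _ ?_)
  have h1 : ρ (g * x) = ρ (x * g) := by
    ext v
    rw [map_mul, map_mul, Module.End.mul_apply, Module.End.mul_apply, h, h, map_smul]
  rw [map_mul, h1, ← map_mul, mul_inv_cancel, map_one]

theorem mem_center_of_eig_top {ρ : Representation ℂ G V} (hf : ∀ g, ρ g = 1 → g = 1) {x : G}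
    {c : ℂ} (h : eig ρ x c = ⊤) : x ∈ Subgroup.center G :=
  mem_center_of_scalar hf fun _ => mem_eig.1 (h ▸ Submodule.mem_top)

theorem exists_eig_top [Finite G] (ρ : Representation ℂ G V) [ρ.IsIrreducible] {z : G}
    (hz : ∀ g, g * z = z * g) : ∃ c : ℂ, eig ρ z c = ⊤ := by
  letI : Fintype G := Fintype.ofFinite G
  obtain ⟨c, hc⟩ := H12.exists_scalar_of_commute ρ (ρ z) fun g => by
    rw [← map_mul, ← map_mul, hz g]
  exact ⟨c, eq_top_iff.2 fun v _ => mem_eig.2 (by rw [hc]; rfl)⟩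

theorem eq_one_of_eq {ρ : Representation ℂ G V} (hf : ∀ g, ρ g = 1 → g = 1) {a b : G}
    (h : ρ a = ρ b) : a = b := by
  refine mul_inv_eq_one.1 (hf _ ?_)
  rw [map_mul, h, ← map_mul, mul_inv_cancel, map_one]

/-- The centraliser of a multiplicity-free element is commutative. -/
theorem commute_of_simple_spectrum [Finite G] {ρ : Representation ℂ G V}
    (hf : ∀ g, ρ g = 1 → g = 1) {x s t : G} (hx : ∀ c, finrank ℂ (eig ρ x c) ≤ 1)
    (hs : s * x = x * s) (ht : t * x = x * t) : s * t = t * s := by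
  refine eq_one_of_eq hf ?_
  have hle : ⨆ c, eig ρ x c ≤ LinearMap.eqLocus (ρ (s * t)) (ρ (t * s)) :=
    iSup_le fun c v hv => commute_on_line hs ht (hx c) hv
  rw [iSup_eig] at hle
  exact LinearMap.ext fun v => hle trivial

/-- The representation of the image. -/
noncomputable def lift (ρ : Representation ℂ G V) (K : Subgroup G) [K.Normal]
    (hK : ∀ k ∈ K, ρ k = 1) : Representation ℂ (G ⧸ K) V :=
  QuotientGroup.lift K ρ fun k hk => hK k hk

theorem lift_mk (ρ : Representation ℂ G V) (K : Subgroup G) [K.Normal]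
    (hK : ∀ k ∈ K, ρ k = 1) (g : G) : lift ρ K hK (g : G ⧸ K) = ρ g := rfl

theorem lift_irr (ρ : Representation ℂ G V) [Finite G] [ρ.IsIrreducible] (K : Subgroup G)
    [K.Normal] (hK : ∀ k ∈ K, ρ k = 1) : (lift ρ K hK).IsIrreducible := by
  haveI := H12.nontrivial_of_isIrreducible ρ
  exact irr_mk _ fun W hW => irr_cases ρ fun g v hv => hW g v hv

theorem lift_faith (ρ : Representation ℂ G V) :
    ∀ g : G ⧸ MonoidHom.ker ρ, lift ρ (MonoidHom.ker ρ) (fun _ hk => hk) g = 1 → g = 1 := by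
  intro g
  induction g using QuotientGroup.induction_on with
  | _ g => exact fun h => (QuotientGroup.eq_one_iff g).2 h

/-- The average of a character counts the fixed vectors. -/
theorem sum_character [Fintype G] (ρ : Representation ℂ G V) :
    ∑ g : G, ρ.character g = (Nat.card G : ℂ) * finrank ℂ ρ.invariants := by
  haveI : Invertible (Fintype.card G : ℂ) :=
    invertibleOfNonzero (Nat.cast_ne_zero.2 Fintype.card_ne_zero)
  have h := (Representation.isProj_averageMap ρ).trace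
  simp [Representation.averageMap, GroupAlgebra.average, map_sum] at h
  rw [← h, Nat.card_eq_fintype_card, ← mul_assoc,
    mul_inv_cancel₀ (Nat.cast_ne_zero.2 Fintype.card_ne_zero), one_mul]
  rfl

end H28.SmallDeg
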