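import Cfsg.Agent.H28.SmallDeg.OneSylow

/-!
The spectral facts of `OneSylow` for all primes greater than five (helper28).
-/

set_option autoImplicit false
set_option linter.unusedSectionVars false
set_option linter.style.haveILetI false
set_option maxHeartbeats 200000

open Cfsg
open scoped ComplexConjugate

namespace H28.SmallDeg

open Module H85.D1 H15.HalfDeg

universe u

variable {V : Type} [AddCommGroup V] [Module ℂ V] [FiniteDimensional ℂ V]
  {G : Type u} [Group G] [Finite G] {p : ℕ} [hp : Fact p.Prime]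

theorem one_gen_five (hp5 : 5 < p) (P : Sylow p G) (hP : Nat.card P = p)
    (hnn : ¬ (P : Subgroup G).Normal) (hgen : Subgroup.closure {g : G | g ^ p = 1} = ⊤)
    (ρ : Representation ℂ G V) [ρ.IsIrreducible] (hf : ∀ g, ρ g = 1 → g = 1)
    (hd : finrank ℂ V + 2 ≤ p) :
    (∀ l : G →* ℂˣ, l = 1) ∧ p ≤ 2 * finrank ℂ V + 1 ∧
      ∀ x ∈ (P : Subgroup G), x ≠ 1 → Spec p ρ x := by
  classical
  letI : Fintype G := Fintype.ofFinite G
  obtain ⟨M, hM⟩ := H22.exists_isPModular p hp.out
  haveI : M.IsPrime := hM.2.1.isPrime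
  obtain ⟨u, a, H, D⟩ := exists_setting hP
  haveI : Fintype H := Fintype.ofFinite _
  haveI : Fintype (P : Subgroup G) := Fintype.ofFinite _
  haveI : Fintype (D.aut (H12.oneIrr H)) := Fintype.ofFinite _
  set χ : IrrCharacter G := ⟨ρ.character, H12.isIrrCharacter_character ρ⟩ with hχ
  have hdeg : H12.degree (χ : G → ℂ) = finrank ℂ V := H12.degree_character ρ
  have hfaith : ∀ g : G, (χ : G → ℂ) g = (χ : G → ℂ) 1 → g = 1 := fun g hg => by
    refine hf g ((H12.character_eq_finrank_iff ρ g).1 ?_)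
    simpa [hχ, Representation.char_one] using hg
  have key : ∀ (δ : ℤ) (ψ : (P : Subgroup G) →* ℂˣ), ψ ≠ 1 →
      (∀ y : (P : Subgroup G), y ≠ 1 → ρ.character (y : G) =
        (δ : ℂ) * ∑ α : D.aut (H12.oneIrr H), (twist ψ α y : ℂ)) →
      (δ = 1 ∧ 2 * finrank ℂ V + 1 = p ∧ Nat.card (D.aut (H12.oneIrr H)) = finrank ℂ V) ∨
        (δ = -1 ∧ finrank ℂ V + Nat.card (D.aut (H12.oneIrr H)) = p ∧
          2 * Nat.card (D.aut (H12.oneIrr H)) + 1 ≤ p) →
      ∀ x ∈ (P : Subgroup G), x ≠ 1 → Spec p ρ x := by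
    intro δ ψ hψ hval hcases x hx hx1
    set ξ : D.aut (H12.oneIrr H) → (P : Subgroup G) →* ℂˣ := fun α => twist ψ α
    have hinj : ∀ φ, Nat.card {α // ξ α = φ} ≤ 1 := fun φ =>
      Finite.card_le_one_iff_subsingleton.2
        ⟨fun α β => Subtype.ext (twist_injective hP hψ (α.2.trans β.2.symm))⟩
    have hx' : (⟨x, hx⟩ : (P : Subgroup G)) ≠ 1 := fun h => hx1 (congrArg Subtype.val h)
    have hcnt := eig_count ρ (P : Subgroup G) hP ξ δ hval hx'
    simp only [← Nat.card_eq_fintype_card] at hcnt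
    have hb : ∀ c, finrank ℂ (eig ρ x c) ≤ 1 := by
      intro c
      rcases hcnt c with h0 | ⟨φ, -, he⟩
      · exact h0.le.trans zero_le_one
      · have h1 := hinj φ
        rcases hcases with ⟨rfl, -, hf'⟩ | ⟨rfl, hf', -⟩
        · rw [hf'] at he
          have : finrank ℂ (eig ρ x c) = Nat.card {α // ξ α = φ} := by
            refine Nat.eq_of_mul_eq_mul_left hp.out.pos ?_
            zify
            linear_combination he
          omega
        · have h2 : (p : ℤ) * finrank ℂ (eig ρ x c) ≤ (p : ℤ) * 1 := by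
            have hz : (finrank ℂ V : ℤ) + Nat.card (D.aut (H12.oneIrr H)) = p := by
              exact_mod_cast hf'
            have hnn' : (0 : ℤ) ≤ (p : ℤ) * Nat.card {α // ξ α = φ} := by positivity
            linarith
          exact_mod_cast le_of_mul_le_mul_left h2 (by exact_mod_cast hp.out.pos)
    refine ⟨hb, ?_⟩
    have h1 := hb 1
    rcases hcases with ⟨rfl, hf2, hf'⟩ | ⟨rfl, hf', hf2⟩
    · suffices finrank ℂ (eig ρ x 1) = 0 by omega
      rcases hcnt 1 with h0 | ⟨φ, hφ, he⟩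
      · exact h0
      · have h0 : Nat.card {α // ξ α = φ} = 0 := by
          refine Nat.card_eq_zero.2 (Or.inl ⟨fun α => hψ ?_⟩)
          have hφ1 : φ = 1 := MonoidHom.ext fun y => by
            obtain ⟨i, rfl⟩ := zpowers_top hP hx' y
            rw [map_zpow, MonoidHom.one_apply, show φ ⟨x, hx⟩ = 1 from Units.ext hφ, one_zpow]
          exact twist_eq_one_iff.1 (α.2.trans hφ1)
        rw [hf', h0] at he
        have : (p : ℤ) * finrank ℂ (eig ρ x 1) = 0 := by
          simpa using he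
        rcases mul_eq_zero.1 this with h | h
        · exact absurd h (by exact_mod_cast hp.out.ne_zero)
        · exact_mod_cast h
    · omega
  rcases H15.Degree.reduce D hM hgen hnn χ (by omega) hfaith with h | ⟨θ, ψ, h⟩
  · rw [hdeg] at h
    obtain ⟨θ, ψ, hh⟩ := exists_half D hM hgen hnn (e := finrank ℂ V) (by omega) h χ hdeg hfaith
    exact ⟨hh.perfect, by omega, key 1 ψ hh.psi_ne
      (fun y hy => by rw [Int.cast_one, one_mul]; exact hh.val y hy)
      (Or.inl ⟨rfl, h, hh.card_aut⟩)⟩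
  · have h1 := h.add_eq
    have h2 := h.le_half
    rw [hdeg] at h1
    exact ⟨h.perfect, by omega, key (-1) ψ h.psi_ne
      (fun y hy => by
        rw [show ρ.character (y : G) = _ from h.val y hy, Int.cast_neg, Int.cast_one, neg_one_mul]
        rfl)
      (Or.inr ⟨rfl, h1, h2⟩)⟩

/-- Sylow subgroups of order `p`, in general. -/
theorem one_facts_five (hp5 : 5 < p) (P : Sylow p G) (hP : Nat.card P = p)
    (hnn : ¬ (P : Subgroup G).Normal) (ρ : Representation ℂ G V) [ρ.IsIrreducible]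
    (hf : ∀ g, ρ g = 1 → g = 1) (hd : finrank ℂ V + 2 ≤ p) :
    (∀ l : Subgroup.closure {g : G | g ^ p = 1} →* ℂˣ, l = 1) ∧ p ≤ 2 * finrank ℂ V + 1 ∧
      ∀ x : G, IsPel p x → x ≠ 1 → Spec p ρ x := by
  classical
  set L := Subgroup.closure {g : G | g ^ p = 1} with hL
  haveI hLn : L.Normal := closure_normal (s := {g : G | g ^ p = 1})
    (fun n hn g => by
      show (g * n * g⁻¹) ^ p = 1
      rw [conj_pow, show n ^ p = 1 from hn, mul_one, mul_inv_cancel])
  have hpowP : ∀ x ∈ (P : Subgroup G), x ^ p = 1 := fun x hx => by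
    have h := pow_card_eq_one' (x := (⟨x, hx⟩ : (P : Subgroup G)))
    rw [show Nat.card (P : Subgroup G) = p from hP] at h
    exact congrArg Subtype.val h
  have hPL : (P : Subgroup G) ≤ L := fun x hx => Subgroup.subset_closure (hpowP x hx)
  set P' := P.subtype hPL with hP'
  have hP'c : Nat.card P' = p :=
    (Nat.card_congr (Subgroup.subgroupOfEquivOfLe hPL).toEquiv).trans hP
  have hgenL : Subgroup.closure {g : L | g ^ p = 1} = ⊤ := by
    refine Eq.trans (congrArg _ ?_)
      (Subgroup.closure_closure_coe_preimage (k := {g : G | g ^ p = 1}))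
    ext g
    simp only [Set.mem_setOf_eq, Set.mem_preimage, ← SubmonoidClass.coe_pow]
    exact ⟨fun h => by rw [h]; rfl, fun h => Subtype.ext h⟩
  set σ : Representation ℂ L V := ρ.comp L.subtype with hσ
  have hfσ : ∀ g, σ g = 1 → g = 1 := fun g hg => Subtype.ext (hf _ hg)
  have hallPel : ∀ x : G, IsPel p x → x ^ p = 1 := fun x hx => by
    obtain ⟨Q, hQ⟩ := hx.exists_sylow
    have hQc : Nat.card Q = p := by rw [Q.card_eq_multiplicity, ← P.card_eq_multiplicity, hP]
    have h := pow_card_eq_one' (x := (⟨x, hQ⟩ : (Q : Subgroup G)))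
    rw [show Nat.card (Q : Subgroup G) = p from hQc] at h
    exact congrArg Subtype.val h
  have hP'n : ¬ (P' : Subgroup L).Normal := fun hN => hnn (normal_of_forall_mem fun x hx => by
    have h := mem_of_normal hN (x := (⟨x, Subgroup.subset_closure (hallPel x hx)⟩ : L))
      (isPel_coe_iff.1 hx)
    exact h)
  obtain ⟨U, hU, -, hUirr, hUsn⟩ := exists_big σ (inv_top σ) (fun h => hP'n
    (normal_of_SN (ρ := res σ ⊤ (inv_top σ)) (fun g hg => hfσ g (LinearMap.ext fun v =>
      (res_eq_one_iff _).1 hg v trivial)) h P'))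
  haveI := hUirr
  set τ := res σ U hU with hτ
  haveI := lift_irr τ (MonoidHom.ker τ) fun _ hk => hk
  set Q := P'.mapSurjective (QuotientGroup.mk'_surjective (MonoidHom.ker τ)) with hQ
  have hQn : ¬ (Q : Subgroup (L ⧸ MonoidHom.ker τ)).Normal := fun h =>
    hUsn (SN_of_normal τ _ (fun _ hk => hk) h)
  have hQc : Nat.card Q = p := by
    have h1 : Nat.card Q ∣ Nat.card P' := by
      rw [hQ, Sylow.coe_mapSurjective]
      exact Subgroup.card_map_dvd _ _
    rw [hP'c] at h1
    refine ((Nat.dvd_prime hp.out).1 h1).resolve_left fun h1 => hQn ?_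
    rw [Subgroup.card_eq_one.1 h1]
    infer_instance
  have hQgen : Subgroup.closure {g : L ⧸ MonoidHom.ker τ | g ^ p = 1} = ⊤ := by
    refine top_le_iff.1 ?_
    rw [← Subgroup.map_top_of_surjective _ (QuotientGroup.mk'_surjective (MonoidHom.ker τ)),
      ← hgenL, MonoidHom.map_closure]
    refine Subgroup.closure_mono ?_
    rintro _ ⟨g, hg, rfl⟩
    show (QuotientGroup.mk' _ g) ^ p = 1
    rw [← map_pow, show g ^ p = 1 from hg, map_one]
  have hUle := Submodule.finrank_le U
  obtain ⟨-, hUbig, -⟩ := one_gen_five hp5 Q hQc hQn hQgen (lift τ _ fun _ hk => hk) (lift_faith τ)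
    (by omega)
  haveI : σ.IsIrreducible := res_irr_of_big ρ L hU hUirr (by omega)
  obtain ⟨hl, hbig, hspec⟩ := one_gen_five hp5 P' hP'c hP'n hgenL σ hfσ hd
  refine ⟨hl, hbig, fun x hx hx1 => ?_⟩
  obtain ⟨R, hR⟩ := hx.exists_sylow
  obtain ⟨g, hg⟩ := MulAction.exists_smul_eq G P R
  rw [← hg, Sylow.coe_subgroup_smul] at hR
  obtain ⟨y, hy, hyx⟩ := hR
  have hyx' : g * y * g⁻¹ = x := hyx
  have hy1 : y ≠ 1 := fun h => hx1 (by rw [← hyx', h, mul_one, mul_inv_cancel])
  obtain ⟨h1, h2⟩ := hspec ⟨y, hPL hy⟩ hy fun h => hy1 (congrArg Subtype.val h)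
  rw [← hyx']
  exact ⟨fun c => (eig_conj ρ g y c).trans_le (h1 c), by rw [eig_conj]; exact h2⟩

end H28.SmallDeg
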