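import Cfsg.Agent.H28.SmallDeg.RepTools
import Cfsg.Agent.H15.Degree.Reduce

/-!
Faithful irreducible representations of degree less than `p - 1` of a group with a non-normal
Sylow subgroup of order `p` (helper28): spectra of the elements of order `p`.
-/

set_option autoImplicit false
set_option linter.unusedSectionVars false
set_option linter.style.haveILetI false
set_option maxHeartbeats 200000

open Cfsg
open scoped ComplexConjugate

namespace H28.SmallDeg

open Module H85.D1 H15.HalfDeg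

universe u

variable {V : Type} [AddCommGroup V] [Module ℂ V] [FiniteDimensional ℂ V]

/-- The representation twisted by the inverse of a linear character. -/
noncomputable def twistRep {G : Type u} [Group G] (φ : G →* ℂˣ) (ρ : Representation ℂ G V) :
    Representation ℂ G V where
  toFun y := ((φ y⁻¹ : ℂˣ) : ℂ) • ρ y
  map_one' := by simp
  map_mul' a b := by
    rw [map_mul, smul_mul_smul_comm, map_inv, map_inv, map_inv, map_mul, mul_inv, Units.val_mul]

theorem mem_invariants_twist {G : Type u} [Group G] (φ : G →* ℂˣ) (ρ : Representation ℂ G V)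
    (v : V) : v ∈ (twistRep φ ρ).invariants ↔ ∀ y : G, ρ y v = (φ y : ℂ) • v := by
  rw [Representation.mem_invariants]
  refine forall_congr' fun y => ?_
  show ((φ y⁻¹ : ℂˣ) : ℂ) • ρ y v = v ↔ _
  rw [map_inv, Units.val_inv_eq_inv_val, inv_smul_eq_iff₀ (Units.ne_zero _)]

variable {G : Type u} [Group G] [Finite G] {p : ℕ} [hp : Fact p.Prime]

/-- The multiplicity of an eigenvalue on a subgroup of order `p`. -/
theorem eig_count (ρ : Representation ℂ G V) (P : Subgroup G) [Fintype P] (hP : Nat.card P = p)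
    {ι : Type*} [Fintype ι] (ξ : ι → P →* ℂˣ) (δ : ℤ)
    (hval : ∀ y : P, y ≠ 1 → ρ.character (y : G) = (δ : ℂ) * ∑ i, (ξ i y : ℂ))
    {x : P} (hx : x ≠ 1) (c : ℂ) :
    finrank ℂ (eig ρ (x : G) c) = 0 ∨ ∃ φ : P →* ℂˣ, (φ x : ℂ) = c ∧
      (p : ℤ) * finrank ℂ (eig ρ (x : G) c) =
        (finrank ℂ V : ℤ) - δ * Fintype.card ι + δ * p * Nat.card {i // ξ i = φ} := by
  classical
  by_cases hE : eig ρ (x : G) c = ⊥
  · left; rw [hE]; exact finrank_bot ℂ V
  right
  obtain ⟨v, hv, hv0⟩ := Submodule.exists_mem_ne_zero_of_ne_bot hE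
  have hpow : ∀ (n : ℕ) (w : V), w ∈ eig ρ (x : G) c → ρ ((x : G) ^ n) w = c ^ n • w := by
    intro n w hw
    induction n with
    | zero => simp
    | succ n ih =>
      rw [pow_succ, map_mul, Module.End.mul_apply, mem_eig.1 hw, map_smul, ih, smul_smul,
        ← pow_succ']
  have hxp : x ^ p = 1 := by rw [← hP]; exact pow_card_eq_one'
  have hcp : c ^ p = 1 := by
    have h := hpow p v hv
    rw [show (x : G) ^ p = 1 from congrArg Subtype.val hxp, map_one, Module.End.one_apply] at h
    exact smul_left_injective ℂ hv0 (by simpa using h.symm)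
  have hgen : ∀ y : P, y ∈ Subgroup.zpowers x := fun y => mem_zpowers_of_prime_card hP hx
  have hord : orderOf x = p := orderOf_eq_prime hxp hx
  have hc0 : c ≠ 0 := fun h0 => by
    rw [h0, zero_pow hp.out.ne_zero] at hcp
    exact zero_ne_one hcp
  have hdvd : orderOf (Units.mk0 c hc0) ∣ orderOf x :=
    hord.symm ▸ orderOf_dvd_of_pow_eq_one (Units.ext (by simpa using hcp))
  set φ := monoidHomOfForallMemZpowers hgen hdvd with hφ
  have hφx : φ x = Units.mk0 c hc0 := monoidHomOfForallMemZpowers_apply_gen _ _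
  refine ⟨φ, by rw [hφx]; rfl, ?_⟩
  have hinv : (twistRep φ (ρ.comp P.subtype)).invariants = eig ρ (x : G) c := by
    ext w
    rw [mem_invariants_twist]
    constructor
    · intro h
      refine mem_eig.2 ?_
      have := h x
      rwa [hφx] at this
    · intro hw y
      obtain ⟨n, rfl⟩ : ∃ n : ℕ, x ^ n = y :=
        (mem_powers_iff_mem_zpowers.2 (hgen y))
      rw [map_pow φ, hφx, Units.val_pow_eq_pow_val, Units.val_mk0]
      exact hpow n w hw
  have hs := sum_character (twistRep φ (ρ.comp P.subtype))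
  rw [hinv, hP] at hs
  have hterm : ∀ y : P, (twistRep φ (ρ.comp P.subtype)).character y =
      conj (φ y : ℂ) * ρ.character (y : G) := fun y => by
    show LinearMap.trace ℂ V (((φ y⁻¹ : ℂˣ) : ℂ) • ρ (y : G)) = _
    rw [map_smul, smul_eq_mul, map_inv, Units.val_inv_eq_inv_val,
      H12.conj_eq_inv_of_pow_eq_one hp.out.ne_zero (z := (φ y : ℂ)) (by
        rw [← Units.val_pow_eq_pow_val, ← map_pow, ← hP, pow_card_eq_one', map_one, Units.val_one])]
    rfl
  rw [Finset.sum_congr rfl fun y _ => hterm y,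
    ← Finset.add_sum_erase _ _ (Finset.mem_univ (1 : P))] at hs
  rw [Finset.sum_congr rfl fun y hy => by rw [hval y (Finset.ne_of_mem_erase hy)]] at hs
  simp only [map_one, Units.val_one, OneMemClass.coe_one, Representation.char_one, one_mul] at hs
  have hinner : ∀ i, ∑ y ∈ Finset.univ.erase (1 : P), conj (φ y : ℂ) * (ξ i y : ℂ) =
      (if ξ i = φ then (p : ℂ) else 0) - 1 := by
    intro i
    rw [Finset.sum_erase_eq_sub (Finset.mem_univ _)]
    simp only [map_one, Units.val_one, one_mul]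
    rw [H20.sum_conj_mul_lin, hP]
  rw [Finset.sum_congr rfl fun y _ => show conj (φ y : ℂ) * ((δ : ℂ) * ∑ i, (ξ i y : ℂ)) =
      (δ : ℂ) * ∑ i, conj (φ y : ℂ) * (ξ i y : ℂ) by rw [mul_left_comm, Finset.mul_sum],
    ← Finset.mul_sum, Finset.sum_comm, Finset.sum_congr rfl fun i _ => hinner i,
    Finset.sum_sub_distrib, Finset.sum_ite, Finset.sum_const_zero, add_zero, Finset.sum_const,
    Finset.sum_const, Finset.card_univ, ← Fintype.card_subtype, nsmul_eq_mul, nsmul_eq_mul,
    mul_one] at hs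
  rw [Nat.card_eq_fintype_card]
  have : (((p : ℤ) * finrank ℂ (eig ρ (x : G) c) : ℤ) : ℂ) = (((finrank ℂ V : ℤ) -
      δ * Fintype.card ι + δ * p * Fintype.card {i // ξ i = φ} : ℤ) : ℂ) := by
    push_cast
    linear_combination -hs
  exact_mod_cast this

/-- The spectrum conditions for an element of order `p`. -/
def Spec (p : ℕ) (ρ : Representation ℂ G V) (x : G) : Prop :=
  (∀ c, finrank ℂ (eig ρ x c) ≤ 1) ∧ 2 * finrank ℂ (eig ρ x 1) + p ≤ 2 * finrank ℂ V + 1

theorem one_gen (hp7 : 7 < p) (P : Sylow p G) (hP : Nat.card P = p)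
    (hnn : ¬ (P : Subgroup G).Normal) (hgen : Subgroup.closure {g : G | g ^ p = 1} = ⊤)
    (ρ : Representation ℂ G V) [ρ.IsIrreducible] (hf : ∀ g, ρ g = 1 → g = 1)
    (hd : finrank ℂ V + 2 ≤ p) :
    (∀ l : G →* ℂˣ, l = 1) ∧ p ≤ 2 * finrank ℂ V + 1 ∧
      ∀ x ∈ (P : Subgroup G), x ≠ 1 → Spec p ρ x := by
  classical
  letI : Fintype G := Fintype.ofFinite G
  obtain ⟨M, hM⟩ := H22.exists_isPModular p hp.out
  haveI : M.IsPrime := hM.2.1.isPrime
  obtain ⟨u, a, H, D⟩ := exists_setting hP
  haveI : Fintype H := Fintype.ofFinite _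
  haveI : Fintype (P : Subgroup G) := Fintype.ofFinite _
  haveI : Fintype (D.aut (H12.oneIrr H)) := Fintype.ofFinite _
  set χ : IrrCharacter G := ⟨ρ.character, H12.isIrrCharacter_character ρ⟩ with hχ
  have hdeg : H12.degree (χ : G → ℂ) = finrank ℂ V := H12.degree_character ρ
  have hfaith : ∀ g : G, (χ : G → ℂ) g = (χ : G → ℂ) 1 → g = 1 := fun g hg => by
    refine hf g ((H12.character_eq_finrank_iff ρ g).1 ?_)
    simpa [hχ, Representation.char_one] using hg
  have key : ∀ (δ : ℤ) (ψ : (P : Subgroup G) →* ℂˣ), ψ ≠ 1 →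
      (∀ y : (P : Subgroup G), y ≠ 1 → ρ.character (y : G) =
        (δ : ℂ) * ∑ α : D.aut (H12.oneIrr H), (twist ψ α y : ℂ)) →
      (δ = 1 ∧ 2 * finrank ℂ V + 1 = p ∧ Nat.card (D.aut (H12.oneIrr H)) = finrank ℂ V) ∨
        (δ = -1 ∧ finrank ℂ V + Nat.card (D.aut (H12.oneIrr H)) = p ∧
          2 * Nat.card (D.aut (H12.oneIrr H)) + 1 ≤ p) →
      ∀ x ∈ (P : Subgroup G), x ≠ 1 → Spec p ρ x := by
    intro δ ψ hψ hval hcases x hx hx1
    set ξ : D.aut (H12.oneIrr H) → (P : Subgroup G) →* ℂˣ := fun α => twist ψ α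
    have hinj : ∀ φ, Nat.card {α // ξ α = φ} ≤ 1 := fun φ =>
      Finite.card_le_one_iff_subsingleton.2
        ⟨fun α β => Subtype.ext (twist_injective hP hψ (α.2.trans β.2.symm))⟩
    have hx' : (⟨x, hx⟩ : (P : Subgroup G)) ≠ 1 := fun h => hx1 (congrArg Subtype.val h)
    have hcnt := eig_count ρ (P : Subgroup G) hP ξ δ hval hx'
    simp only [← Nat.card_eq_fintype_card] at hcnt
    have hb : ∀ c, finrank ℂ (eig ρ x c) ≤ 1 := by
      intro c
      rcases hcnt c with h0 | ⟨φ, -, he⟩
      · exact h0.le.trans zero_le_one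
      · have h1 := hinj φ
        rcases hcases with ⟨rfl, -, hf'⟩ | ⟨rfl, hf', -⟩
        · rw [hf'] at he
          have : finrank ℂ (eig ρ x c) = Nat.card {α // ξ α = φ} := by
            refine Nat.eq_of_mul_eq_mul_left hp.out.pos ?_
            zify
            linear_combination he
          omega
        · have h2 : (p : ℤ) * finrank ℂ (eig ρ x c) ≤ (p : ℤ) * 1 := by
            have hz : (finrank ℂ V : ℤ) + Nat.card (D.aut (H12.oneIrr H)) = p := by
              exact_mod_cast hf'
            have hnn' : (0 : ℤ) ≤ (p : ℤ) * Nat.card {α // ξ α = φ} := by positivity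
            linarith
          exact_mod_cast le_of_mul_le_mul_left h2 (by exact_mod_cast hp.out.pos)
    refine ⟨hb, ?_⟩
    have h1 := hb 1
    rcases hcases with ⟨rfl, hf2, hf'⟩ | ⟨rfl, hf', hf2⟩
    · suffices finrank ℂ (eig ρ x 1) = 0 by omega
      rcases hcnt 1 with h0 | ⟨φ, hφ, he⟩
      · exact h0
      · have h0 : Nat.card {α // ξ α = φ} = 0 := by
          refine Nat.card_eq_zero.2 (Or.inl ⟨fun α => hψ ?_⟩)
          have hφ1 : φ = 1 := MonoidHom.ext fun y => by
            obtain ⟨i, rfl⟩ := zpowers_top hP hx' y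
            rw [map_zpow, MonoidHom.one_apply, show φ ⟨x, hx⟩ = 1 from Units.ext hφ, one_zpow]
          exact twist_eq_one_iff.1 (α.2.trans hφ1)
        rw [hf', h0] at he
        have : (p : ℤ) * finrank ℂ (eig ρ x 1) = 0 := by
          simpa using he
        rcases mul_eq_zero.1 this with h | h
        · exact absurd h (by exact_mod_cast hp.out.ne_zero)
        · exact_mod_cast h
    · omega
  rcases H15.Degree.reduce D hM hgen hnn χ (by omega) hfaith with h | ⟨θ, ψ, h⟩
  · rw [hdeg] at h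
    obtain ⟨θ, ψ, hh⟩ := exists_half D hM hgen hnn (e := finrank ℂ V) (by omega) h χ hdeg hfaith
    exact ⟨hh.perfect, by omega, key 1 ψ hh.psi_ne
      (fun y hy => by rw [Int.cast_one, one_mul]; exact hh.val y hy)
      (Or.inl ⟨rfl, h, hh.card_aut⟩)⟩
  · have h1 := h.add_eq
    have h2 := h.le_half
    rw [hdeg] at h1
    exact ⟨h.perfect, by omega, key (-1) ψ h.psi_ne
      (fun y hy => by
        rw [show ρ.character (y : G) = _ from h.val y hy, Int.cast_neg, Int.cast_one, neg_one_mul]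
        rfl)
      (Or.inr ⟨rfl, h1, h2⟩)⟩

/-- A subgroup generated by a set closed under conjugation is normal. -/
theorem closure_normal {H : Type*} [Group H] {s : Set H}
    (h : ∀ n ∈ s, ∀ g : H, g * n * g⁻¹ ∈ s) : (Subgroup.closure s).Normal := by
  refine ⟨fun n hn g => ?_⟩
  induction hn using Subgroup.closure_induction with
  | mem x hx => exact Subgroup.subset_closure (h x hx g)
  | one => rw [mul_one, mul_inv_cancel]; exact one_mem _
  | mul a b _ _ ha hb =>
    rw [show g * (a * b) * g⁻¹ = g * a * g⁻¹ * (g * b * g⁻¹) by group]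
    exact mul_mem ha hb
  | inv a _ ha =>
    rw [show g * a⁻¹ * g⁻¹ = (g * a * g⁻¹)⁻¹ by group]
    exact inv_mem ha

/-- A representation is irreducible on a normal subgroup with a large irreducible constituent. -/
theorem res_irr_of_big (ρ : Representation ℂ G V) [ρ.IsIrreducible] (L : Subgroup G) [L.Normal]
    {U : Submodule ℂ V} (hU : Inv (ρ.comp L.subtype) U)
    (hirr : (res (ρ.comp L.subtype) U hU).IsIrreducible)
    (hbig : finrank ℂ V < 2 * finrank ℂ U) :
    Representation.IsIrreducible (ρ.comp L.subtype : Representation ℂ L V) := by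
  haveI := hirr
  haveI := H12.nontrivial_of_isIrreducible ρ
  have hinv : ∀ g : G, Inv (ρ.comp L.subtype) (U.map (ρ g)) := by
    rintro g l _ ⟨v, hv, rfl⟩
    have hm : g⁻¹ * (l : G) * g ∈ L := by
      simpa using Subgroup.Normal.conj_mem inferInstance (l : G) l.2 g⁻¹
    refine ⟨ρ (g⁻¹ * l * g) v, hU ⟨_, hm⟩ v hv, ?_⟩
    · show ρ g (ρ (g⁻¹ * l * g) v) = ρ (l : G) (ρ g v)
      rw [← Module.End.mul_apply, ← map_mul, ← Module.End.mul_apply, ← map_mul]
      congr 2
      group
  have hinj : ∀ g : G, Function.Injective (ρ g) := fun g =>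
    Function.LeftInverse.injective (g := ρ g⁻¹) fun v => by
      rw [← Module.End.mul_apply, ← map_mul, inv_mul_cancel, map_one, Module.End.one_apply]
  have hmap : ∀ g : G, U.map (ρ g) ≤ U := by
    intro g
    have hWi : Inv (res (ρ.comp L.subtype) U hU) ((U.map (ρ g)).comap U.subtype) :=
      fun l v hv => hinv g l v hv
    rcases irr_cases _ hWi with h | h
    · exfalso
      have hdis : U.map (ρ g) ⊓ U = ⊥ := (Submodule.eq_bot_iff _).2 fun v hv =>
        congrArg Subtype.val ((Submodule.eq_bot_iff _).1 h ⟨v, hv.2⟩ hv.1)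
      have h1 := finrank_inf_ge (U.map (ρ g)) U
      rw [hdis, finrank_bot, ← (Submodule.equivMapOfInjective _ (hinj g) U).finrank_eq] at h1
      omega
    · have hle : U ≤ U.map (ρ g) := fun v hv =>
        (h ▸ Submodule.mem_top : (⟨v, hv⟩ : U) ∈ (U.map (ρ g)).comap U.subtype)
      exact (Submodule.eq_of_le_of_finrank_le hle
        ((Submodule.equivMapOfInjective _ (hinj g) U).finrank_eq.ge)).ge
  rcases irr_cases ρ (W := U) fun g v hv => hmap g ⟨v, hv, rfl⟩ with h | h
  · rw [h, finrank_bot] at hbig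
    omega
  subst h
  refine irr_mk _ fun W hW => ?_
  rcases irr_cases (res (ρ.comp L.subtype) ⊤ hU) (W := W.comap (⊤ : Submodule ℂ V).subtype)
    (fun l v hv => hW l v hv) with h | h
  · refine Or.inl ((Submodule.eq_bot_iff W).2 fun v hv => ?_)
    exact congrArg Subtype.val
      ((Submodule.eq_bot_iff _).1 h ⟨v, trivial⟩ hv)
  · refine Or.inr (eq_top_iff.2 fun v _ => ?_)
    exact (h ▸ Submodule.mem_top :
      (⟨v, trivial⟩ : (⊤ : Submodule ℂ V)) ∈ W.comap (⊤ : Submodule ℂ V).subtype)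

/-- Sylow subgroups of order `p`, in general. -/
theorem one_facts (hp7 : 7 < p) (P : Sylow p G) (hP : Nat.card P = p)
    (hnn : ¬ (P : Subgroup G).Normal) (ρ : Representation ℂ G V) [ρ.IsIrreducible]
    (hf : ∀ g, ρ g = 1 → g = 1) (hd : finrank ℂ V + 2 ≤ p) :
    (∀ l : Subgroup.closure {g : G | g ^ p = 1} →* ℂˣ, l = 1) ∧ p ≤ 2 * finrank ℂ V + 1 ∧
      ∀ x : G, IsPel p x → x ≠ 1 → Spec p ρ x := by
  classical
  set L := Subgroup.closure {g : G | g ^ p = 1} with hL
  haveI hLn : L.Normal := closure_normal (s := {g : G | g ^ p = 1})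
    (fun n hn g => by
      show (g * n * g⁻¹) ^ p = 1
      rw [conj_pow, show n ^ p = 1 from hn, mul_one, mul_inv_cancel])
  have hpowP : ∀ x ∈ (P : Subgroup G), x ^ p = 1 := fun x hx => by
    have h := pow_card_eq_one' (x := (⟨x, hx⟩ : (P : Subgroup G)))
    rw [show Nat.card (P : Subgroup G) = p from hP] at h
    exact congrArg Subtype.val h
  have hPL : (P : Subgroup G) ≤ L := fun x hx => Subgroup.subset_closure (hpowP x hx)
  set P' := P.subtype hPL with hP'
  have hP'c : Nat.card P' = p :=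
    (Nat.card_congr (Subgroup.subgroupOfEquivOfLe hPL).toEquiv).trans hP
  have hgenL : Subgroup.closure {g : L | g ^ p = 1} = ⊤ := by
    refine Eq.trans (congrArg _ ?_)
      (Subgroup.closure_closure_coe_preimage (k := {g : G | g ^ p = 1}))
    ext g
    simp only [Set.mem_setOf_eq, Set.mem_preimage, ← SubmonoidClass.coe_pow]
    exact ⟨fun h => by rw [h]; rfl, fun h => Subtype.ext h⟩
  set σ : Representation ℂ L V := ρ.comp L.subtype with hσ
  have hfσ : ∀ g, σ g = 1 → g = 1 := fun g hg => Subtype.ext (hf _ hg)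
  have hallPel : ∀ x : G, IsPel p x → x ^ p = 1 := fun x hx => by
    obtain ⟨Q, hQ⟩ := hx.exists_sylow
    have hQc : Nat.card Q = p := by rw [Q.card_eq_multiplicity, ← P.card_eq_multiplicity, hP]
    have h := pow_card_eq_one' (x := (⟨x, hQ⟩ : (Q : Subgroup G)))
    rw [show Nat.card (Q : Subgroup G) = p from hQc] at h
    exact congrArg Subtype.val h
  have hP'n : ¬ (P' : Subgroup L).Normal := fun hN => hnn (normal_of_forall_mem fun x hx => by
    have h := mem_of_normal hN (x := (⟨x, Subgroup.subset_closure (hallPel x hx)⟩ : L))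
      (isPel_coe_iff.1 hx)
    exact h)
  obtain ⟨U, hU, -, hUirr, hUsn⟩ := exists_big σ (inv_top σ) (fun h => hP'n
    (normal_of_SN (ρ := res σ ⊤ (inv_top σ)) (fun g hg => hfσ g (LinearMap.ext fun v =>
      (res_eq_one_iff _).1 hg v trivial)) h P'))
  haveI := hUirr
  set τ := res σ U hU with hτ
  haveI := lift_irr τ (MonoidHom.ker τ) fun _ hk => hk
  set Q := P'.mapSurjective (QuotientGroup.mk'_surjective (MonoidHom.ker τ)) with hQ
  have hQn : ¬ (Q : Subgroup (L ⧸ MonoidHom.ker τ)).Normal := fun h =>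
    hUsn (SN_of_normal τ _ (fun _ hk => hk) h)
  have hQc : Nat.card Q = p := by
    have h1 : Nat.card Q ∣ Nat.card P' := by
      rw [hQ, Sylow.coe_mapSurjective]
      exact Subgroup.card_map_dvd _ _
    rw [hP'c] at h1
    refine ((Nat.dvd_prime hp.out).1 h1).resolve_left fun h1 => hQn ?_
    rw [Subgroup.card_eq_one.1 h1]
    infer_instance
  have hQgen : Subgroup.closure {g : L ⧸ MonoidHom.ker τ | g ^ p = 1} = ⊤ := by
    refine top_le_iff.1 ?_
    rw [← Subgroup.map_top_of_surjective _ (QuotientGroup.mk'_surjective (MonoidHom.ker τ)),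
      ← hgenL, MonoidHom.map_closure]
    refine Subgroup.closure_mono ?_
    rintro _ ⟨g, hg, rfl⟩
    show (QuotientGroup.mk' _ g) ^ p = 1
    rw [← map_pow, show g ^ p = 1 from hg, map_one]
  have hUle := Submodule.finrank_le U
  obtain ⟨-, hUbig, -⟩ := one_gen hp7 Q hQc hQn hQgen (lift τ _ fun _ hk => hk) (lift_faith τ)
    (by omega)
  haveI : σ.IsIrreducible := res_irr_of_big ρ L hU hUirr (by omega)
  obtain ⟨hl, hbig, hspec⟩ := one_gen hp7 P' hP'c hP'n hgenL σ hfσ hd
  refine ⟨hl, hbig, fun x hx hx1 => ?_⟩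
  obtain ⟨R, hR⟩ := hx.exists_sylow
  obtain ⟨g, hg⟩ := MulAction.exists_smul_eq G P R
  rw [← hg, Sylow.coe_subgroup_smul] at hR
  obtain ⟨y, hy, hyx⟩ := hR
  have hyx' : g * y * g⁻¹ = x := hyx
  have hy1 : y ≠ 1 := fun h => hx1 (by rw [← hyx', h, mul_one, mul_inv_cancel])
  obtain ⟨h1, h2⟩ := hspec ⟨y, hPL hy⟩ hy fun h => hy1 (congrArg Subtype.val h)
  rw [← hyx']
  exact ⟨fun c => (eig_conj ρ g y c).trans_le (h1 c), by rw [eig_conj]; exact h2⟩

end H28.SmallDeg
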