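import Cfsg.Agent.H28.SmallDeg.OneSylow
import Cfsg.Agent.H14.SmallDegreeSylow
import Cfsg.Agent.H15.PSubTwo.Structure
import Cfsg.Agent.H65.BaerSuzuki

/-!
Reduction to a Sylow subgroup of order `p` for faithful irreducible characters of degree at most
`p - 3` (helper28), by the argument of Feit and Thompson.
-/

set_option autoImplicit false
set_option linter.unusedSectionVars false
set_option linter.style.haveILetI false
set_option maxHeartbeats 200000

open Cfsg

namespace H28.SmallDeg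

open Module

universe u

variable {G : Type u} [Group G] [Finite G] {V : Type} [AddCommGroup V] [Module ℂ V]
  [FiniteDimensional ℂ V] {p : ℕ} [hp : Fact p.Prime]

theorem pel_inv {x : G} (h : IsPel p x) : IsPel p x⁻¹ := by
  obtain ⟨k, hk⟩ := h
  exact ⟨k, by rw [inv_pow, hk, inv_one]⟩

theorem pel_mul {x y : G} (hx : IsPel p x) (hy : IsPel p y) (h : Commute x y) :
    IsPel p (x * y) := by
  obtain ⟨i, hi⟩ := hx
  obtain ⟨j, hj⟩ := hy
  refine ⟨i + j, ?_⟩
  rw [h.mul_pow, pow_add, pow_mul, hi, one_pow, mul_comm (p ^ i), pow_mul, hj, one_pow, one_mul]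

theorem central_pel_mem {z : G} (hz : z ∈ Subgroup.center G) (h : IsPel p z) (P : Sylow p G) :
    z ∈ (P : Subgroup G) := by
  haveI : (Subgroup.zpowers z).Normal := ⟨fun w hw g => by
    rw [Subgroup.mem_center_iff.1 (Subgroup.zpowers_le.2 hz hw) g, mul_inv_cancel_right]
    exact hw⟩
  exact le_sylow_of_normal h.zpowers P (Subgroup.mem_zpowers z)

/-- The spectral conclusions. -/
structure Good (p : ℕ) (ρ : Representation ℂ G V) : Prop where
  big : p ≤ 2 * finrank ℂ V + 1
  simple : ∀ x : G, IsPel p x → x ∉ Subgroup.center G → ∀ c, finrank ℂ (eig ρ x c) ≤ 1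
  pow_mem : ∀ x : G, IsPel p x → x ^ p ∈ Subgroup.center G
  cyclic : ∀ x y : G, IsPel p x → IsPel p y → x * y = y * x → x ∉ Subgroup.center G →
    ∃ i : ℤ, (x ^ i)⁻¹ * y ∈ Subgroup.center G

/-- The induction hypothesis. -/
def Below (p N : ℕ) : Prop :=
  ∀ (A : Type u) [Group A] [Finite A] (W : Type) [AddCommGroup W] [Module ℂ W]
    [FiniteDimensional ℂ W] (τ : Representation ℂ A W), Nat.card A < N → τ.IsIrreducible →
    (∀ a, τ a = 1 → a = 1) → finrank ℂ W + 3 ≤ p →
    ∀ Q : Sylow p A, ¬ (Q : Subgroup A).Normal → Good p τ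

/-- Elements scalar on a large irreducible constituent. -/
theorem scalar_of_central_image {H : Subgroup G} {ρ : Representation ℂ G V} {U : Submodule ℂ V}
    {hU : Inv (ρ.comp H.subtype) U} (hirr : (res (ρ.comp H.subtype) U hU).IsIrreducible) {h : H}
    (hh : (h : H ⧸ MonoidHom.ker (res (ρ.comp H.subtype) U hU)) ∈ Subgroup.center _) :
    ∃ c : ℂ, U ≤ eig ρ (h : G) c := by
  haveI := hirr
  haveI := lift_irr (res (ρ.comp H.subtype) U hU) (MonoidHom.ker (res (ρ.comp H.subtype) U hU)) (fun _ hk => hk)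
  obtain ⟨c, hc⟩ := exists_eig_top (lift (res (ρ.comp H.subtype) U hU) (MonoidHom.ker (res (ρ.comp H.subtype) U hU)) (fun _ hk => hk))
    (z := (h : H ⧸ MonoidHom.ker (res (ρ.comp H.subtype) U hU)))
    (fun g => Subgroup.mem_center_iff.1 hh g)
  refine ⟨c, fun v hv => mem_eig.2 ?_⟩
  have h2 : (⟨v, hv⟩ : U) ∈ eig (lift (res (ρ.comp H.subtype) U hU) (MonoidHom.ker (res (ρ.comp H.subtype) U hU)) (fun _ hk => hk))
      (h : H ⧸ MonoidHom.ker (res (ρ.comp H.subtype) U hU)) c := by
    rw [hc]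
    exact Submodule.mem_top
  exact congrArg Subtype.val (mem_eig.1 h2 :)

section Step

variable {ρ : Representation ℂ G V} [ρ.IsIrreducible] (hf : ∀ g, ρ g = 1 → g = 1)
  (hd : finrank ℂ V + 3 ≤ p) (hB : Below.{u} p (Nat.card G))

omit hp in
theorem card_quot_le {H : Type*} [Group H] [Finite H] (K : Subgroup H) :
    Nat.card (H ⧸ K) ≤ Nat.card H :=
  Nat.card_le_card_of_surjective _ Quotient.mk_surjective

include hd hB in
/-- The constituents of proper subgroups with non-normal image. -/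
theorem sub_good {H : Subgroup G} (hH : H ≠ ⊤) {U : Submodule ℂ V}
    {hU : Inv (ρ.comp H.subtype) U} (hirr : (res (ρ.comp H.subtype) U hU).IsIrreducible)
    (hns : ¬ SN p (res (ρ.comp H.subtype) U hU)) :
    Good p (lift (res (ρ.comp H.subtype) U hU) (MonoidHom.ker (res (ρ.comp H.subtype) U hU)) (fun _ hk => hk)) := by
  haveI := hirr
  set τ := res (ρ.comp H.subtype) U hU
  obtain ⟨Q⟩ : Nonempty (Sylow p (H ⧸ MonoidHom.ker τ)) := inferInstance
  refine hB _ _ _ ((card_quot_le _).trans_lt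
    (lt_of_le_of_ne (Subgroup.card_le_card_group H)
      fun he => hH (Subgroup.eq_top_of_card_eq _ he)))
    (lift_irr τ _ _) (lift_faith τ) ?_ Q fun h => hns (SN_of_normal τ _ (fun _ hk => hk) h)
  have := Submodule.finrank_le U
  omega

include hd hB in
theorem sub_big {H : Subgroup G} (hH : H ≠ ⊤) {W : Submodule ℂ V}
    {hW : Inv (ρ.comp H.subtype) W} (hns : ¬ SN p (res (ρ.comp H.subtype) W hW)) :
    p ≤ 2 * finrank ℂ W + 1 := by
  obtain ⟨U, hU, hUW, hUirr, hUns⟩ := exists_big _ hW hns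
  have h1 := (sub_good hd hB hH hUirr hUns).big
  have h2 := Submodule.finrank_mono hUW
  omega

include hf in
theorem not_SN_top {H : Subgroup G} {R : Sylow p H} (hR : ¬ (R : Subgroup H).Normal) :
    ¬ SN p (res (ρ.comp H.subtype) ⊤ (inv_top _)) := fun h =>
  hR (normal_of_SN (ρ := res (ρ.comp H.subtype) ⊤ (inv_top _))
    (fun g hg => Subtype.ext (hf _ (LinearMap.ext fun v => (res_eq_one_iff _).1 hg v trivial)))
    h R)

omit hp in
theorem irr_top {H : Subgroup G} (hH : H = ⊤) :
    Representation.IsIrreducible (ρ.comp H.subtype : Representation ℂ H V) := by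
  haveI := H12.nontrivial_of_isIrreducible ρ
  subst hH
  exact irr_mk _ fun W hW => irr_cases ρ fun g v hv => hW ⟨g, trivial⟩ v hv

variable (p) in
/-- The subgroup generated by the `p`-elements. -/
def pGen (G : Type u) [Group G] : Subgroup G := Subgroup.closure {x : G | IsPel p x}

instance pGen_normal : (pGen p G).Normal :=
  closure_normal (s := {x : G | IsPel p x}) fun _ hn g => hn.conj g

variable {P : Sylow p G} (hnn : ¬ (P : Subgroup G).Normal)

include hf hd hB hnn in
theorem gen_irr :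
    Representation.IsIrreducible
      (ρ.comp (pGen p G).subtype : Representation ℂ (pGen p G) V) := by
  by_cases hL : pGen p G = ⊤
  · exact irr_top hL
  have hPL : (P : Subgroup G) ≤ pGen p G := fun x hx =>
    Subgroup.subset_closure (isPel_of_mem P.isPGroup' hx)
  have hPn : ¬ ((P.subtype hPL : Sylow p (pGen p G)) : Subgroup (pGen p G)).Normal := fun hN =>
    hnn (normal_of_forall_mem fun x hx =>
      mem_of_normal hN (x := (⟨x, Subgroup.subset_closure hx⟩ : pGen p G)) (isPel_coe_iff.1 hx))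
  obtain ⟨U, hU, -, hUirr, hUns⟩ := exists_big _ (inv_top _) (not_SN_top hf hPn)
  have h1 := (sub_good hd hB hL hUirr hUns).big
  exact res_irr_of_big ρ _ hU hUirr (by omega)

include hf hd in
theorem sylow_commute (R : Sylow p G) : ∀ a ∈ (R : Subgroup G), ∀ b ∈ (R : Subgroup G),
    a * b = b * a :=
  H14.SmallDegree.sylow_comm R (H12.isCharacter_character ρ)
    (fun g hg => hf g ((H12.character_eq_finrank_iff ρ g).1 (by
      simpa [Representation.char_one] using hg)))
    (n := finrank ℂ V) (Representation.char_one ρ) (by omega)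

include hf hd hB hnn in
/-- Non-central `p`-elements have small eigenspaces. -/
theorem mem_center_of_big_eig {x : G} (hx : IsPel p x) {c : ℂ}
    (hc : p ≤ 2 * finrank ℂ (eig ρ x c) + 1) : x ∈ Subgroup.center G := by
  classical
  by_contra hxZ
  by_cases hall : ∀ g : G, IsPGroup p ↥(Subgroup.closure ({x, g * x * g⁻¹} : Set G))
  · haveI := gen_irr hf hd hB hnn
    have hxQ := H65.mem_pCore_of_pairs hall
    have hcomm : ∀ l ∈ pGen p G, l * x = x * l := by
      intro l hl
      induction hl using Subgroup.closure_induction with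
      | mem y hy =>
        obtain ⟨R, hR⟩ := IsPel.exists_sylow hy
        exact sylow_commute hf hd R y hR x (H1.pCore_le_sylow R hxQ)
      | one => rw [one_mul, mul_one]
      | mul a b _ _ ha hb => exact (Commute.mul_left ha hb :)
      | inv a _ ha => exact (Commute.inv_left ha :)
    have hxL : x ∈ pGen p G := Subgroup.subset_closure hx
    obtain ⟨a, ha⟩ := exists_eig_top (ρ.comp (pGen p G).subtype) (z := ⟨x, hxL⟩)
      fun g => Subtype.ext (hcomm g g.2)
    exact hxZ (mem_center_of_eig_top hf ha)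
  push Not at hall
  obtain ⟨g, hg⟩ := hall
  set y := g * x * g⁻¹ with hy
  set K := Subgroup.closure ({x, y} : Set G) with hK
  have hxK : x ∈ K := Subgroup.subset_closure (Set.mem_insert _ _)
  have hyK : y ∈ K := Subgroup.subset_closure (Set.mem_insert_of_mem _ rfl)
  have hcy : p ≤ 2 * finrank ℂ (eig ρ y c) + 1 := by rw [hy, eig_conj]; exact hc
  -- the subgroup is proper
  have hKne : K ≠ ⊤ := by
    intro hKt
    set W := eig ρ x c ⊓ eig ρ y c with hW
    have hscal : ∀ k ∈ K, ∃ a : ℂ, ∀ v ∈ W, ρ k v = a • v := by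
      intro k hk
      induction hk using Subgroup.closure_induction with
      | mem z hz =>
        rcases hz with rfl | hz
        · exact ⟨c, fun v hv => mem_eig.1 hv.1⟩
        · rw [Set.mem_singleton_iff] at hz
          subst hz
          exact ⟨c, fun v hv => mem_eig.1 hv.2⟩
      | one => exact ⟨1, fun v _ => by rw [map_one, one_smul]; rfl⟩
      | mul a b _ _ ha hb =>
        obtain ⟨α, hα⟩ := ha
        obtain ⟨β, hβ⟩ := hb
        exact ⟨β * α, fun v hv => by
          rw [map_mul, Module.End.mul_apply, hβ v hv, map_smul, hα v hv, smul_smul]⟩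
      | inv a _ ha =>
        obtain ⟨α, hα⟩ := ha
        refine ⟨α⁻¹, fun v hv => ?_⟩
        have h1 : ρ a⁻¹ (ρ a v) = v := by
          rw [← Module.End.mul_apply, ← map_mul, inv_mul_cancel, map_one, Module.End.one_apply]
        rw [hα v hv, map_smul] at h1
        by_cases hα0 : α = 0
        · rw [hα0, zero_smul] at h1
          rw [← h1]; simp
        · exact (eq_inv_smul_iff₀ hα0).2 h1
    have hWi : Inv ρ W := fun k v hv => by
      obtain ⟨a, ha⟩ := hscal k (hKt ▸ Subgroup.mem_top k)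
      rw [ha v hv]
      exact W.smul_mem a hv
    rcases irr_cases ρ hWi with h | h
    · have h1 := finrank_inf_ge (eig ρ x c) (eig ρ y c)
      rw [← hW, h, finrank_bot] at h1
      omega
    · exact hxZ (mem_center_of_eig_top hf (top_le_iff.1 (h ▸ inf_le_left : ⊤ ≤ eig ρ x c)))
  obtain ⟨R⟩ : Nonempty (Sylow p K) := inferInstance
  have hRn : ¬ (R : Subgroup K).Normal := by
    intro hN
    refine hg ((R.isPGroup'.map K.subtype).to_le ((Subgroup.closure_le _).2 ?_))
    rintro z (rfl | hz)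
    · exact ⟨⟨z, hxK⟩, mem_of_normal hN (isPel_coe_iff.1 hx), rfl⟩
    · rw [Set.mem_singleton_iff] at hz
      subst hz
      exact ⟨⟨y, hyK⟩, mem_of_normal hN (isPel_coe_iff.1 (hx.conj g)), rfl⟩
  obtain ⟨U, hU, -, hUirr, hUns⟩ := exists_big _ (inv_top _) (not_SN_top hf hRn)
  set τ := res (ρ.comp K.subtype) U hU with hτ
  have hG' := sub_good hd hB hKne hUirr hUns
  have hU1 := hG'.big
  -- one of the two generators is not central in the image
  have hnc : ∃ z : K, IsPel p z ∧ p ≤ 2 * finrank ℂ (eig ρ (z : G) c) + 1 ∧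
      (z : K ⧸ MonoidHom.ker τ) ∉ Subgroup.center (K ⧸ MonoidHom.ker τ) := by
    by_contra hno
    push Not at hno
    refine hUns ?_
    obtain ⟨Q⟩ : Nonempty (Sylow p (K ⧸ MonoidHom.ker τ)) := inferInstance
    refine SN_of_normal τ _ (fun _ hk => hk) (P := Q) ⟨fun w hw s => ?_⟩
    have hcen : ∀ k : G, ∀ hk : k ∈ K,
        ((⟨k, hk⟩ : K) : K ⧸ MonoidHom.ker τ) ∈ Subgroup.center _ := by
      intro k hk
      induction hk using Subgroup.closure_induction with
      | mem z hz =>
        rcases hz with rfl | hz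
        · exact hno ⟨z, hxK⟩ (isPel_coe_iff.1 hx) hc
        · rw [Set.mem_singleton_iff] at hz
          subst hz
          exact hno ⟨y, hyK⟩ (isPel_coe_iff.1 (hx.conj g)) hcy
      | one => exact one_mem (Subgroup.center (K ⧸ MonoidHom.ker τ))
      | mul a b _ _ ha hb => exact mul_mem ha hb
      | inv a _ ha => exact inv_mem ha
    induction s using QuotientGroup.induction_on with
    | _ s =>
      have hcs : ∀ w : K ⧸ MonoidHom.ker τ, w * (s : K ⧸ MonoidHom.ker τ) = s * w :=
        Subgroup.mem_center_iff.1 (hcen s s.2)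
      rw [← hcs w, mul_inv_cancel_right]
      exact hw
  obtain ⟨z, hz, hzc, hzn⟩ := hnc
  have h1 := hG'.simple _ (hz.map (QuotientGroup.mk' _)) hzn c
  have h2 : finrank ℂ (eig τ z c) ≤ 1 := h1
  rw [hτ, finrank_eig_res hU z c] at h2
  have h3 := finrank_inf_ge (eig ρ (z : G) c) U
  have h4 : finrank ℂ ↥(eig (ρ.comp K.subtype) z c ⊓ U) =
      finrank ℂ ↥(eig ρ (z : G) c ⊓ U) := rfl
  omega

include hf hd hB hnn in
/-- A Sylow subgroup containing a non-central element contains all commuting `p`-elements. -/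
theorem mem_of_commute {R : Sylow p G} {x w : G} (hxR : x ∈ (R : Subgroup G))
    (hxZ : x ∉ Subgroup.center G) (hw : IsPel p w) (hwx : w * x = x * w) :
    w ∈ (R : Subgroup G) := by
  set C := Subgroup.centralizer ({x} : Set G) with hC
  have hRC : (R : Subgroup G) ≤ C := fun y hy =>
    Subgroup.mem_centralizer_singleton_iff.2 (sylow_commute hf hd R y hy x hxR)
  have hCne : C ≠ ⊤ := fun he => hxZ (Subgroup.mem_center_iff.2 fun g =>
    Subgroup.mem_centralizer_singleton_iff.1 (he ▸ Subgroup.mem_top g : g ∈ C))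
  by_cases hN : ((R.subtype hRC : Sylow p C) : Subgroup C).Normal
  · exact mem_of_normal hN (x := (⟨w, Subgroup.mem_centralizer_singleton_iff.2 hwx⟩ : C))
      (isPel_coe_iff.1 hw)
  exfalso
  obtain ⟨U, hU, -, hUirr, hUns⟩ := exists_big _ (inv_top _) (not_SN_top hf hN)
  have hU1 := (sub_good hd hB hCne hUirr hUns).big
  haveI := hUirr
  let x' : C := ⟨x, hRC hxR⟩
  obtain ⟨a, ha⟩ := scalar_of_central_image hUirr (h := x') (by
    refine Subgroup.mem_center_iff.2 fun s => ?_
    induction s using QuotientGroup.induction_on with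
    | _ s =>
      rw [← QuotientGroup.mk_mul, ← QuotientGroup.mk_mul]
      exact congrArg _ (Subtype.ext (Subgroup.mem_centralizer_singleton_iff.1 s.2)))
  have h2 := Submodule.finrank_mono ha
  have h3 : p ≤ 2 * finrank ℂ (eig ρ x a) + 1 := by
    have h4 : finrank ℂ (eig ρ (x' : G) a) = finrank ℂ (eig ρ x a) := rfl
    omega
  exact hxZ (mem_center_of_big_eig hf hd hB hnn (isPel_of_mem R.isPGroup' hxR) h3)

variable (hp7 : 7 < p) (hdet : ∀ z ∈ Subgroup.center G, IsPel p z → z = 1)

include hf hd hB hnn hp7 hdet in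
/-- The separation property for Sylow subgroups of order greater than `p`. -/
theorem sep (hP : Nat.card P ≠ p) : H14.FTBound.Sep (P : Subgroup G) := by
  classical
  intro g hg a b ha hb
  obtain ⟨⟨x, hx⟩, hx1'⟩ := Subgroup.ne_bot_iff_exists_ne_one.1 ha
  obtain ⟨⟨y, hy⟩, hy1'⟩ := Subgroup.ne_bot_iff_exists_ne_one.1 hb
  rw [Subgroup.mem_inf] at hx hy
  have hx1 : x ≠ 1 := fun h => hx1' (Subtype.ext h)
  have hy1 : y ≠ 1 := fun h => hy1' (Subtype.ext h)
  set A := a • P with hA
  set B := b • P with hB'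
  have hAc : (A : Subgroup G) = (P : Subgroup G).map (MulAut.conj a).toMonoidHom := rfl
  have hBc : (B : Subgroup G) = (P : Subgroup G).map (MulAut.conj b).toMonoidHom := rfl
  rw [← hAc] at hx ⊢
  rw [← hBc] at hy ⊢
  have hxP : IsPel p x := isPel_of_mem A.isPGroup' hx.2
  have hyP : IsPel p y := isPel_of_mem B.isPGroup' hy.2
  have hxZ : x ∉ Subgroup.center G := fun h => hx1 (hdet x h hxP)
  have hyZ : y ∉ Subgroup.center G := fun h => hy1 (hdet y h hyP)
  set C := Subgroup.centralizer ({g} : Set G) with hC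
  let xx : C := ⟨x, hx.1⟩
  let yy : C := ⟨y, hy.1⟩
  obtain ⟨R, hR⟩ := (isPel_coe_iff.1 (show IsPel p (xx : G) from hxP)).exists_sylow
  by_cases hRn : (R : Subgroup C).Normal
  · obtain ⟨T, hT⟩ := (R.isPGroup'.map C.subtype).exists_le_sylow
    have hxy : x * y = y * x := sylow_commute hf hd T x (hT ⟨xx, hR, rfl⟩) y
      (hT ⟨yy, mem_of_normal hRn (isPel_coe_iff.1 (show IsPel p (yy : G) from hyP)), rfl⟩)
    have hyA : y ∈ (A : Subgroup G) := mem_of_commute hf hd hB hnn hx.2 hxZ hyP hxy.symm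
    have hle : (B : Subgroup G) ≤ A := fun w hw =>
      mem_of_commute hf hd hB hnn hyA hyZ (isPel_of_mem B.isPGroup' hw)
        (sylow_commute hf hd B w hw y hy.2)
    exact (Subgroup.eq_of_le_of_card_ge hle
      (by rw [A.card_eq_multiplicity, B.card_eq_multiplicity])).symm
  exfalso
  have hCne : C ≠ ⊤ := fun he => hg (Subgroup.mem_center_iff.2 fun w =>
    Subgroup.mem_centralizer_singleton_iff.1 (he ▸ Subgroup.mem_top w : w ∈ C))
  obtain ⟨U, hU, -, hUirr, hUns⟩ := exists_big _ (inv_top _) (not_SN_top hf hRn)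
  haveI := hUirr
  set τ := res (ρ.comp C.subtype) U hU with hτ
  have hG' := sub_good hd hB hCne hUirr hUns
  have hU1 := hG'.big
  have hUle := Submodule.finrank_le U
  -- `p`-elements scalar on `U` are trivial
  have htriv : ∀ s : C, IsPel p s →
      (s : C ⧸ MonoidHom.ker τ) ∈ Subgroup.center _ → s = 1 := by
    intro s hs hsc
    obtain ⟨c, hc⟩ := scalar_of_central_image hUirr hsc
    have h2 := Submodule.finrank_mono hc
    exact Subtype.ext (hdet _ (mem_center_of_big_eig hf hd hB hnn (isPel_coe_iff.2 hs)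
      (c := c) (by omega)) (isPel_coe_iff.2 hs))
  have hxxp : IsPel p xx := isPel_coe_iff.1 (show IsPel p (xx : G) from hxP)
  have hxc : (xx : C ⧸ MonoidHom.ker τ) ∉ Subgroup.center _ := fun h =>
    hx1 (congrArg Subtype.val (htriv xx hxxp h))
  have hpw : xx ^ p = 1 := htriv _ (hxxp.pow p) (by
    rw [QuotientGroup.mk_pow]; exact hG'.pow_mem _ (hxxp.map (QuotientGroup.mk' _)))
  have hcyc : ∀ s : C, IsPel p s → s * xx = xx * s → s ∈ Subgroup.zpowers xx := by
    intro s hs hsx
    obtain ⟨i, hi⟩ := hG'.cyclic _ _ (hxxp.map (QuotientGroup.mk' _))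
      (hs.map (QuotientGroup.mk' _)) (by rw [← map_mul, ← map_mul, hsx]) hxc
    rw [← map_zpow, ← map_inv, ← map_mul] at hi
    have hcom : Commute (xx ^ i)⁻¹ s := ((show Commute xx s from hsx.symm).zpow_left i).inv_left
    have h1 := htriv _ (pel_mul (isPel_of_mem hxxp.zpowers
      (inv_mem (Subgroup.zpow_mem_zpowers xx i))) hs hcom) hi
    rw [inv_mul_eq_one] at h1
    exact ⟨i, h1⟩
  have hRz : (R : Subgroup C) = Subgroup.zpowers xx := by
    refine le_antisymm (fun s hs => hcyc s (isPel_of_mem R.isPGroup' hs) ?_)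
      (Subgroup.zpowers_le.2 hR)
    obtain ⟨T, hT⟩ := (R.isPGroup'.map C.subtype).exists_le_sylow
    exact Subtype.ext (sylow_commute hf hd T _ (hT ⟨s, hs, rfl⟩) _ (hT ⟨xx, hR, rfl⟩))
  have hxx1 : xx ≠ 1 := fun h => hx1 (congrArg Subtype.val h)
  have hRc : Nat.card R = p := by
    rw [hRz, Nat.card_zpowers]
    exact orderOf_eq_prime hpw hxx1
  -- the image on `U`
  set π := QuotientGroup.mk' (MonoidHom.ker τ) with hπ
  set Q := R.mapSurjective (f := π) (QuotientGroup.mk'_surjective _) with hQ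
  have hQn : ¬ (Q : Subgroup (C ⧸ MonoidHom.ker τ)).Normal := fun h =>
    hUns (SN_of_normal τ _ (fun _ hk => hk) h)
  have hQc : Nat.card Q = p := by
    have h1 : Nat.card Q ∣ Nat.card R := by
      rw [hQ, Sylow.coe_mapSurjective]
      exact Subgroup.card_map_dvd _ _
    rw [hRc] at h1
    refine ((Nat.dvd_prime hp.out).1 h1).resolve_left fun h1 => hQn ?_
    rw [Subgroup.card_eq_one.1 h1]
    infer_instance
  haveI := lift_irr τ (MonoidHom.ker τ) (fun _ hk => hk)
  obtain ⟨hl, -, hspec⟩ := one_facts hp7 Q hQc hQn (lift τ (MonoidHom.ker τ) fun _ hk => hk) (lift_faith τ)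
    (by omega)
  have hπx : π xx ≠ 1 := fun h => hxc (by
    show π xx ∈ Subgroup.center _
    rw [h]; exact one_mem _)
  obtain ⟨hs1, hs2⟩ := hspec (π xx) (hxxp.map π) hπx
  -- `x` is trivial on a complement
  obtain ⟨W, hW, hUW⟩ := exists_compl _ hU
  have hdim : finrank ℂ U + finrank ℂ W = finrank ℂ V := Submodule.finrank_add_eq_of_isCompl hUW
  set σ := res (ρ.comp C.subtype) W hW with hσ
  have hWsn : SN p σ := by
    by_contra hns
    have := sub_big hd hB hCne hns
    omega
  set N := MonoidHom.ker σ with hN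
  have hxW : xx ∈ N := by
    by_contra hxN
    have hSN' : SN p (lift σ N fun _ hk => hk) := by
      obtain ⟨M, hMn, hM1, hM2⟩ := hWsn
      refine ⟨M.map (QuotientGroup.mk' N), hMn.map _ (QuotientGroup.mk'_surjective N),
        fun w hw => ?_, ?_⟩
      · induction w using QuotientGroup.induction_on with
        | _ w =>
          obtain ⟨w', hw', he⟩ := exists_pel_preimage (QuotientGroup.mk' N) (g := w) hw
          exact ⟨w', hM1 w' hw', he⟩
      · rintro _ ⟨m, hm, rfl⟩
        obtain ⟨k, hk⟩ := hM2 m hm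
        exact ⟨k, by rw [← map_pow]; exact hk⟩
    have hRN : ((R.mapSurjective (f := QuotientGroup.mk' N) (QuotientGroup.mk'_surjective _) :
        Sylow p (C ⧸ N)) : Subgroup (C ⧸ N)).Normal :=
      normal_of_SN (lift_faith σ) hSN' _
    have hmem : ∀ h : C, IsPel p h → ∃ i : ℤ, (xx ^ i)⁻¹ * h ∈ N := by
      intro h hh
      have h1 := mem_of_normal hRN (hh.map (QuotientGroup.mk' N))
      rw [Sylow.coe_mapSurjective, hRz, MonoidHom.map_zpowers] at h1
      obtain ⟨i, hi⟩ := h1
      refine ⟨i, (QuotientGroup.eq_one_iff _).1 ?_⟩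
      have hi' : (QuotientGroup.mk' N xx) ^ i = QuotientGroup.mk' N h := hi
      show QuotientGroup.mk' N ((xx ^ i)⁻¹ * h) = 1
      rw [map_mul, map_inv, map_zpow, hi', inv_mul_cancel]
    -- `N` has order prime to `p`
    have hNp : ¬ p ∣ Nat.card N := by
      intro hdvd
      obtain ⟨s, hs⟩ := exists_prime_orderOf_dvd_card' p hdvd
      have hs1 : (s : C) ^ p = 1 := by
        rw [← SubmonoidClass.coe_pow, ← hs, pow_orderOf_eq_one, OneMemClass.coe_one]
      obtain ⟨T, hT⟩ := (isPel_of_pow_p hs1).exists_sylow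
      obtain ⟨t, ht⟩ := MulAction.exists_smul_eq C T R
      have h2 : t * (s : C) * t⁻¹ ∈ (R : Subgroup C) := by
        rw [← ht, Sylow.coe_subgroup_smul]
        exact ⟨(s : C), hT, rfl⟩
      have h3 : t * (s : C) * t⁻¹ ∈ N := Subgroup.Normal.conj_mem inferInstance _ s.2 t
      have h4 : t * (s : C) * t⁻¹ ≠ 1 := fun h => by
        rw [conj_eq_one_iff] at h
        have : s = 1 := Subtype.ext h
        rw [this, orderOf_one] at hs
        exact hp.out.ne_one hs.symm
      rw [hRz] at h2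
      haveI : IsCyclic (Subgroup.zpowers xx) :=
        isCyclic_of_prime_card (p := p) (by rw [← hRz]; exact hRc)
      have h5 : (⟨xx, Subgroup.mem_zpowers xx⟩ : Subgroup.zpowers xx) ∈
          Subgroup.zpowers (⟨_, h2⟩ : Subgroup.zpowers xx) :=
        mem_zpowers_of_prime_card (p := p) (by rw [← hRz]; exact hRc)
          (fun h => h4 (congrArg Subtype.val h))
      obtain ⟨j, hj⟩ := h5
      have h6 : (t * (s : C) * t⁻¹) ^ j = xx := congrArg Subtype.val hj
      exact hxN (h6 ▸ zpow_mem h3 j)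
    set L := Subgroup.closure {w : C ⧸ MonoidHom.ker τ | w ^ p = 1} with hL
    set N' := N.map π with hN'
    haveI : N'.Normal := Subgroup.Normal.map inferInstance π (QuotientGroup.mk'_surjective _)
    set η : L →* (C ⧸ MonoidHom.ker τ) ⧸ N' := (QuotientGroup.mk' N').comp L.subtype with hη
    have hrange : ∀ w : L, η w ∈ Subgroup.zpowers (QuotientGroup.mk' N' (π xx)) := by
      suffices L ≤ (Subgroup.zpowers (QuotientGroup.mk' N' (π xx))).comap
          (QuotientGroup.mk' N') from fun w => this w.2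
      refine (Subgroup.closure_le _).2 fun w hw => ?_
      induction w using QuotientGroup.induction_on with
      | _ w =>
        obtain ⟨w', hw', he⟩ := exists_pel_preimage π (g := w) (isPel_of_pow_p hw)
        obtain ⟨i, hi⟩ := hmem w' hw'
        refine ⟨i, ?_⟩
        show (QuotientGroup.mk' N' (π xx)) ^ i = QuotientGroup.mk' N' (π w)
        rw [← he, ← map_zpow, ← map_zpow]
        exact QuotientGroup.eq.2 ⟨(xx ^ i)⁻¹ * w', hi, by rw [map_mul, map_inv]⟩
    have hker : commutator L ≤ MonoidHom.ker η := by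
      rw [commutator_def, Subgroup.commutator_le]
      intro s _ t _
      rw [MonoidHom.mem_ker, map_commutatorElement, commutatorElement_eq_one_iff_mul_comm]
      obtain ⟨i, hi⟩ := hrange s
      obtain ⟨j, hj⟩ := hrange t
      rw [← hi, ← hj]
      exact zpow_mul_comm _ i j
    rw [H15.PSubTwo.commutator_eq_top_of_lin hl] at hker
    have hxL : π xx ∈ L := Subgroup.subset_closure (by
      show π xx ^ p = 1
      rw [← map_pow, hpw, map_one])
    obtain ⟨n, hn, hne⟩ : π xx ∈ N' :=
      (QuotientGroup.eq_one_iff _).1 (hker (Subgroup.mem_top ⟨π xx, hxL⟩))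
    have h1 : orderOf (π xx) = p := orderOf_eq_prime (by rw [← map_pow, hpw, map_one]) hπx
    rw [← hne] at h1
    exact hNp (h1 ▸ (orderOf_map_dvd π n).trans (Subgroup.orderOf_dvd_natCard N hn))
  have hfix : ∀ w ∈ W, ρ x w = w := (res_eq_one_iff hW).1 hxW
  -- eigenspaces of `x` for eigenvalues other than one
  have hline : ∀ c : ℂ, c ≠ 1 → eig ρ x c ≤ U := by
    intro c hc v hv
    have hv' : v ∈ U ⊔ W := hUW.sup_eq_top ▸ Submodule.mem_top
    obtain ⟨u, hu, w, hw, rfl⟩ := Submodule.mem_sup.1 hv'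
    have h1 := mem_eig.1 hv
    rw [map_add, hfix w hw, smul_add] at h1
    have h2 : ρ x u - c • u = (c - 1) • w := by
      rw [sub_smul, one_smul, sub_eq_sub_iff_add_eq_add, h1, add_comm]
    have h3 : (c - 1) • w ∈ U ⊓ W :=
      ⟨h2 ▸ U.sub_mem (hU xx u hu) (U.smul_mem c hu), W.smul_mem _ hw⟩
    rw [hUW.inf_eq_bot, Submodule.mem_bot, smul_eq_zero, sub_eq_zero] at h3
    rw [h3.resolve_left hc, add_zero]
    exact hu
  have hone : ∀ c : ℂ, c ≠ 1 → finrank ℂ (eig ρ x c) ≤ 1 := by
    intro c hc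
    have h1 : finrank ℂ (eig τ xx c) ≤ 1 := hs1 c
    rw [hτ, finrank_eig_res hU xx c] at h1
    refine le_trans (Submodule.finrank_mono (le_inf (le_refl (eig ρ x c)) (hline c hc))) h1
  -- so `g` centralises `A`
  have hgx : g * x = x * g :=
    (Subgroup.mem_centralizer_singleton_iff.1 hx.1).symm
  have hAx : (A : Subgroup G) ≤ Subgroup.zpowers x := by
    intro h hh
    have hhx : h * x = x * h := sylow_commute hf hd A h hh x hx.2
    set h1 := (h * g)⁻¹ * (g * h) with hh1
    have hm : h1 ∈ (A : Subgroup G) := by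
      rw [show h1 = (g⁻¹ * h⁻¹ * g⁻¹⁻¹) * h by rw [hh1]; group]
      refine mul_mem (mem_of_commute hf hd hB hnn hx.2 hxZ
        ((pel_inv (isPel_of_mem A.isPGroup' hh)).conj g⁻¹) ?_) hh
      exact (((show Commute g x from hgx).inv_left.mul_left
        (show Commute h x from hhx).inv_left).mul_left
          (show Commute g x from hgx).inv_left.inv_left :)
    have hF : ∀ c : ℂ, c ≠ 1 → eig ρ x c ≤ eig ρ h1 1 := fun c hc v hv => by
      refine mem_eig.2 ?_
      rw [one_smul, hh1, map_mul, Module.End.mul_apply, commute_on_line hgx hhx (hone c hc) hv,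
        ← Module.End.mul_apply, ← map_mul, inv_mul_cancel, map_one, Module.End.one_apply]
    have hUF : U ≤ eig ρ h1 1 ⊔ (eig ρ x 1 ⊓ U) := by
      have h2 : (⊤ : Submodule ℂ U) ≤ (eig ρ h1 1 ⊔ (eig ρ x 1 ⊓ U)).comap U.subtype := by
        rw [← iSup_eig τ xx]
        refine iSup_le fun c v hv => ?_
        have hv' : (v : V) ∈ eig ρ x c := mem_eig.2 (congrArg Subtype.val (mem_eig.1 hv))
        by_cases hc : c = 1
        · subst hc
          exact Submodule.mem_sup_right ⟨hv', v.2⟩
        · exact Submodule.mem_sup_left (hF c hc hv')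
      exact fun v hv => h2 (Submodule.mem_top : (⟨v, hv⟩ : U) ∈ ⊤)
    have h3 := (Submodule.finrank_mono hUF).trans
      (Submodule.finrank_add_le_finrank_add_finrank _ _)
    have h4 : finrank ℂ (eig (lift τ (MonoidHom.ker τ) fun _ hk => hk) (π xx) 1) =
        finrank ℂ ↥(eig ρ x 1 ⊓ U) := finrank_eig_res hU xx 1
    rw [h4] at hs2
    have h5 : h1 = 1 := hdet _ (mem_center_of_big_eig hf hd hB hnn
      (isPel_of_mem A.isPGroup' hm) (c := 1) (by omega)) (isPel_of_mem A.isPGroup' hm)
    rw [hh1, inv_mul_eq_one] at h5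
    have hhC : h ∈ C := Subgroup.mem_centralizer_singleton_iff.2 h5
    obtain ⟨i, hi⟩ := hcyc ⟨h, hhC⟩ (isPel_coe_iff.1 (isPel_of_mem A.isPGroup' hh))
      (Subtype.ext hhx)
    exact ⟨i, congrArg Subtype.val hi⟩
  refine hP ?_
  have hord : orderOf x = p := orderOf_eq_prime (congrArg Subtype.val hpw) hx1
  rw [P.card_eq_multiplicity, ← A.card_eq_multiplicity,
    le_antisymm hAx (Subgroup.zpowers_le.2 hx.2), Nat.card_zpowers, hord]

include hf hd hB hnn hp7 hdet in
/-- The Sylow subgroup has order `p`. -/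
theorem card_sylow : Nat.card P = p := by
  classical
  letI : Fintype G := Fintype.ofFinite G
  haveI : Fintype (P : Subgroup G) := Fintype.ofFinite _
  obtain ⟨x, hxP, hx1⟩ : ∃ x ∈ (P : Subgroup G), x ≠ 1 := by
    by_contra hno
    push Not at hno
    exact hnn ⟨fun y hy g => by rw [hno y hy, mul_one, mul_inv_cancel]; exact one_mem _⟩
  by_cases hL : pGen p G = ⊤
  swap
  · set L := pGen p G with hLdef
    haveI := gen_irr hf hd hB hnn
    have hPL : (P : Subgroup G) ≤ L := fun x hx =>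
      Subgroup.subset_closure (isPel_of_mem P.isPGroup' hx)
    have hPn : ¬ ((P.subtype hPL : Sylow p L) : Subgroup L).Normal := fun hN =>
      hnn (normal_of_forall_mem fun x hx =>
        mem_of_normal hN (x := (⟨x, Subgroup.subset_closure hx⟩ : L)) (isPel_coe_iff.1 hx))
    have hgood := hB L V (ρ.comp L.subtype)
      (lt_of_le_of_ne (Subgroup.card_le_card_group L) fun he => hL (Subgroup.eq_top_of_card_eq _ he))
      inferInstance (fun a ha => Subtype.ext (hf _ ha)) hd _ hPn
    have hcen : ∀ z : L, z ∈ Subgroup.center L → (z : G) ∈ Subgroup.center G := fun z hz => by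
      obtain ⟨c, hc⟩ := exists_eig_top (ρ.comp L.subtype) (Subgroup.mem_center_iff.1 hz)
      exact mem_center_of_eig_top hf hc
    let x' : L := ⟨x, hPL hxP⟩
    have hxp : IsPel p x' := isPel_coe_iff.1 (isPel_of_mem P.isPGroup' hxP)
    have hxc : x' ∉ Subgroup.center L := fun h =>
      hx1 (hdet x (hcen x' h) (isPel_of_mem P.isPGroup' hxP))
    have hpw : x ^ p = 1 := hdet _ (hcen _ (hgood.pow_mem x' hxp))
      ((isPel_of_mem P.isPGroup' hxP).pow p)
    have hle : (P : Subgroup G) ≤ Subgroup.zpowers x := by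
      intro y hy
      obtain ⟨i, hi⟩ := hgood.cyclic x' ⟨y, hPL hy⟩ hxp
        (isPel_coe_iff.1 (isPel_of_mem P.isPGroup' hy))
        (Subtype.ext (sylow_commute hf hd P x hxP y hy)) hxc
      have h1 : (x ^ i)⁻¹ * y = 1 := hdet _ (hcen _ hi) (isPel_of_mem P.isPGroup'
        (mul_mem (inv_mem (zpow_mem hxP i)) hy))
      exact ⟨i, inv_mul_eq_one.1 h1⟩
    rw [le_antisymm hle (Subgroup.zpowers_le.2 hxP), Nat.card_zpowers]
    exact orderOf_eq_prime hpw hx1
  by_contra hP
  have hhmax : ∀ M : Subgroup G, M.Normal → (P : Subgroup G) ≤ M → M = ⊤ := by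
    intro M hM hPM
    refine top_le_iff.1 (hL ▸ (Subgroup.closure_le _).2 fun y hy => ?_)
    obtain ⟨R, hR⟩ := IsPel.exists_sylow hy
    obtain ⟨t, ht⟩ := MulAction.exists_smul_eq G P R
    rw [← ht, Sylow.coe_subgroup_smul] at hR
    obtain ⟨w, hw, rfl⟩ := hR
    exact hM.conj_mem w (hPM hw) t
  have hPZ : (P : Subgroup G) ⊓ Subgroup.center G = ⊥ :=
    (Subgroup.eq_bot_iff_forall _).2 fun z hz => hdet z hz.2 (isPel_of_mem P.isPGroup' hz.1)
  have hne : ρ.character 1 ≠ 1 := by
    intro h1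
    rw [Representation.char_one, Nat.cast_eq_one] at h1
    refine hx1 (hdet x ?_ (isPel_of_mem P.isPGroup' hxP))
    obtain ⟨v, hv, hspan⟩ := finrank_eq_one_iff'.1 h1
    obtain ⟨c, hc⟩ := hspan (ρ x v)
    refine mem_center_of_scalar hf (c := c) fun w => ?_
    obtain ⟨a, rfl⟩ := hspan w
    rw [map_smul, ← hc, smul_comm]
  have h1 := H14.FTBound.card_lt_sq (P : Subgroup G) (sylow_commute hf hd P) hPZ
    (sep hf hd hB hnn hp7 hdet hP) (H12.isIrrCharacter_character ρ) hne hhmax
  rw [Representation.char_one, Complex.natCast_re] at h1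
  have h2 : Nat.card (P : Subgroup G) < (1 + finrank ℂ V) ^ 2 := by exact_mod_cast h1
  obtain ⟨e, he⟩ := IsPGroup.iff_card.1 P.isPGroup'
  have he0 : e ≠ 0 := fun h0 => hx1 (Subgroup.mem_bot.1
    (Subgroup.card_eq_one.1 (by rw [he, h0, pow_zero] : Nat.card (P : Subgroup G) = 1) ▸ hxP))
  have he1 : e ≠ 1 := fun h0 => hP (by
    show Nat.card (P : Subgroup G) = p
    rw [he, h0, pow_one])
  have h3 : p ^ 2 ≤ p ^ e := Nat.pow_le_pow_right hp.out.pos (by omega)
  have h4 : (1 + finrank ℂ V) ^ 2 < p ^ 2 := Nat.pow_lt_pow_left (by omega) two_ne_zero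
  omega

end Step

/-- A twist with trivial `p`-part of the determinant. -/
theorem exists_twist (ρ : Representation ℂ G V) (hd0 : 0 < finrank ℂ V)
    (hd : finrank ℂ V < p) : ∃ l : G →* ℂˣ, ∀ z : G, IsPel p z → ∀ a : ℂ,
      (∀ v, ρ z v = a • v) → a = l z := by
  classical
  set n := finrank ℂ V with hn
  set δ : G →* ℂˣ := (Units.map (LinearMap.det : Module.End ℂ V →* ℂ)).comp ρ.toHomUnits with hδ
  obtain ⟨N, hN⟩ : ∃ N, ∀ z : G, IsPel p z → z ^ p ^ N = 1 := by
    refine ⟨(Nat.card G).factorization p, fun z ⟨k, hk⟩ => orderOf_dvd_iff_pow_eq_one.1 ?_⟩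
    obtain ⟨j, -, hj⟩ := (Nat.dvd_prime_pow hp.out).1 (orderOf_dvd_of_pow_eq_one hk)
    rw [hj]
    exact Nat.pow_dvd_pow _ ((hp.out.pow_dvd_iff_le_factorization Nat.card_pos.ne').1
      (hj ▸ orderOf_dvd_natCard z))
  have hcop : Nat.Coprime n (p ^ N) :=
    Nat.Coprime.pow_right N (Nat.coprime_of_lt_prime hd0.ne' hd hp.out).symm
  refine ⟨?_, ?_⟩
  · exact δ ^ (Nat.gcdA n (p ^ N) % (p ^ N : ℕ)).toNat
  intro z hz a ha
  set r := (Nat.gcdA n (p ^ N) % (p ^ N : ℕ)).toNat with hr
  have hzn : z ^ p ^ N = 1 := hN z hz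
  have hzop : ρ z = a • (1 : Module.End ℂ V) := LinearMap.ext fun v => ha v
  have hdet : (δ z : ℂ) = a ^ n := by
    show LinearMap.det (ρ z) = _
    rw [hzop, LinearMap.det_smul, map_one, mul_one]
  haveI : Nontrivial V := Module.finrank_pos_iff.1 hd0
  obtain ⟨v, hv⟩ := exists_ne (0 : V)
  have hpow : ∀ k : ℕ, ρ (z ^ k) v = a ^ k • v := fun k => by
    induction k with
    | zero => simp
    | succ k ih =>
      rw [pow_succ, map_mul, Module.End.mul_apply, ha, map_smul, ih, smul_smul, ← pow_succ']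
  have haN : a ^ p ^ N = 1 := by
    have h := hpow (p ^ N)
    rw [hzn, map_one, Module.End.one_apply] at h
    exact smul_left_injective ℂ hv (by simpa using h.symm)
  have hnr : (n * r) ≡ 1 [MOD p ^ N] := by
    have hb := Nat.gcd_eq_gcd_ab n (p ^ N)
    rw [hcop.gcd_eq_one] at hb
    rw [← Int.natCast_modEq_iff, Int.modEq_iff_dvd]
    have hr' : (r : ℤ) = Nat.gcdA n (p ^ N) % (p ^ N : ℕ) :=
      Int.toNat_of_nonneg (Int.emod_nonneg _ (by exact_mod_cast (pow_pos hp.out.pos N).ne'))
    refine ⟨Nat.gcdB n (p ^ N) + (n : ℤ) * (Nat.gcdA n (p ^ N) / (p ^ N : ℕ)), ?_⟩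
    have hdiv := Int.emod_add_mul_ediv (Nat.gcdA n (p ^ N)) ((p ^ N : ℕ) : ℤ)
    push_cast at hb hdiv hr' ⊢
    rw [hr']
    linear_combination hb - (n : ℤ) * hdiv
  rw [MonoidHom.pow_apply, Units.val_pow_eq_pow_val, hdet, ← pow_mul]
  have h1 : a ^ (n * r) = a ^ 1 := by
    rw [← pow_mod_orderOf, hnr.of_dvd (orderOf_dvd_of_pow_eq_one haN), pow_mod_orderOf]
  rw [h1, pow_one]

/-- The twisted group. -/
theorem exists_quotient (hp7 : 7 < p) (N : ℕ) (hB : Below.{u} p N) (hN : Nat.card G ≤ N)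
    (ρ : Representation ℂ G V) [ρ.IsIrreducible] (hf : ∀ g, ρ g = 1 → g = 1)
    (hd : finrank ℂ V + 3 ≤ p) (P : Sylow p G) (hnn : ¬ (P : Subgroup G).Normal) :
    ∃ (l : G →* ℂˣ) (K : Subgroup G) (_ : K.Normal) (hK : ∀ k ∈ K, twistRep l ρ k = 1),
      (lift (twistRep l ρ) K hK).IsIrreducible ∧
      (∀ g, lift (twistRep l ρ) K hK g = 1 → g = 1) ∧ K ≤ Subgroup.center G ∧
      (∀ g : G, (g : G ⧸ K) ∈ Subgroup.center (G ⧸ K) ↔ g ∈ Subgroup.center G) ∧
      ∃ P' : Sylow p (G ⧸ K), Nat.card P' = p ∧ ¬ (P' : Subgroup (G ⧸ K)).Normal := by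
  classical
  haveI := H12.nontrivial_of_isIrreducible ρ
  obtain ⟨l, hl⟩ := exists_twist ρ (H12.finrank_pos_of_isIrreducible ρ) (p := p) (by omega)
  set σ := twistRep l ρ with hσ
  have hσa : ∀ (g : G) (v : V), σ g v = ((l g⁻¹ : ℂˣ) : ℂ) • ρ g v := fun _ _ => rfl
  haveI : σ.IsIrreducible := irr_mk _ fun W hW => irr_cases ρ fun g v hv => by
    have h := W.smul_mem ((l g : ℂˣ) : ℂ) (hW g v hv)
    rwa [hσa, smul_smul, ← Units.val_mul, ← map_mul, mul_inv_cancel, map_one, Units.val_one,
      one_smul] at h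
  set K := MonoidHom.ker σ with hK
  have hscal : ∀ k ∈ K, ∀ v, ρ k v = (l k : ℂ) • v := fun k hk v => by
    have h : σ k v = v := by rw [show σ k = 1 from hk]; rfl
    rwa [hσa, map_inv, Units.val_inv_eq_inv_val, inv_smul_eq_iff₀ (Units.ne_zero _)] at h
  have hKZ : K ≤ Subgroup.center G := fun k hk => mem_center_of_scalar hf (hscal k hk)
  have hcen : ∀ g : G, (g : G ⧸ K) ∈ Subgroup.center (G ⧸ K) ↔ g ∈ Subgroup.center G := by
    intro g
    refine ⟨fun h => Subgroup.mem_center_iff.2 fun s => ?_, fun h =>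
      Subgroup.mem_center_iff.2 fun s => ?_⟩
    · have hc : s * g * (g * s)⁻¹ ∈ K := (QuotientGroup.eq_one_iff _).1 (by
        rw [QuotientGroup.mk_mul, QuotientGroup.mk_inv, QuotientGroup.mk_mul,
          QuotientGroup.mk_mul, ← Subgroup.mem_center_iff.1 h (s : G ⧸ K), mul_inv_cancel])
      refine mul_inv_eq_one.1 (hf _ (LinearMap.ext fun v => ?_))
      rw [hscal _ hc v, map_mul, map_mul, map_inv, map_mul, mul_comm (l s), mul_inv_cancel,
        Units.val_one, one_smul]
      rfl
    · induction s using QuotientGroup.induction_on with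
      | _ s => rw [← QuotientGroup.mk_mul, ← QuotientGroup.mk_mul, Subgroup.mem_center_iff.1 h s]
  refine ⟨l, K, inferInstance, fun _ hk => hk, lift_irr σ K _, lift_faith σ, hKZ, hcen,
    P.mapSurjective (f := QuotientGroup.mk' K) (QuotientGroup.mk'_surjective _), ?_⟩
  set P' := P.mapSurjective (f := QuotientGroup.mk' K) (QuotientGroup.mk'_surjective _) with hP'
  have hnn' : ¬ (P' : Subgroup (G ⧸ K)).Normal := by
    intro hN'
    refine hnn (normal_of_forall_mem fun x hx => ?_)
    have h1 := mem_of_normal hN' (hx.map (QuotientGroup.mk' K))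
    rw [hP', Sylow.coe_mapSurjective] at h1
    obtain ⟨y, hy, hyx⟩ := h1
    have hk : y⁻¹ * x ∈ K := QuotientGroup.eq.1 hyx
    have hc : Commute y⁻¹ x := by
      have h2 := Subgroup.mem_center_iff.1 (hKZ hk) y
      rw [mul_inv_cancel_left] at h2
      have h3 : Commute y x := by
        show y * x = x * y
        have h4 : x * y = y * (y⁻¹ * x * y) := by group
        rw [h4, ← h2]
      exact h3.inv_left
    rw [show x = y * (y⁻¹ * x) by group]
    exact mul_mem hy (central_pel_mem (hKZ hk)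
      (pel_mul (pel_inv (isPel_of_mem P.isPGroup' hy)) hx hc) P)
  haveI := lift_irr σ K fun _ hk => hk
  refine ⟨card_sylow (ρ := lift σ K fun _ hk => hk) (lift_faith σ) hd ?_ hnn' hp7 ?_, hnn'⟩
  · exact fun A _ _ W _ _ _ τ hA => hB A W τ (hA.trans_le ((card_quot_le K).trans hN))
  intro w hw hwp
  induction w using QuotientGroup.induction_on with
  | _ w =>
    obtain ⟨z, hz, hzw⟩ := exists_pel_preimage (QuotientGroup.mk' K) (g := w) hwp
    have hzw' : (z : G ⧸ K) = (w : G ⧸ K) := hzw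
    obtain ⟨a, ha⟩ := exists_eig_top ρ (Subgroup.mem_center_iff.1 ((hcen z).1 (hzw' ▸ hw)))
    have ha' : ∀ v, ρ z v = a • v := fun v => mem_eig.1 (ha ▸ Submodule.mem_top)
    rw [← hzw']
    refine (QuotientGroup.eq_one_iff _).2 (LinearMap.ext fun v => ?_)
    rw [hσa, ha' v, hl z hz a ha', smul_smul, ← Units.val_mul, ← map_mul, inv_mul_cancel, map_one,
      Units.val_one, one_smul]
    rfl

/-- The spectral facts hold for all groups. -/
theorem good_aux (hp7 : 7 < p) (N : ℕ) : ∀ (A : Type u) [Group A] [Finite A] (W : Type)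
    [AddCommGroup W] [Module ℂ W] [FiniteDimensional ℂ W] (τ : Representation ℂ A W),
    Nat.card A = N → τ.IsIrreducible → (∀ a, τ a = 1 → a = 1) → finrank ℂ W + 3 ≤ p →
    ∀ Q : Sylow p A, ¬ (Q : Subgroup A).Normal → Good p τ := by
  induction N using Nat.strong_induction_on with
  | _ N ih =>
    intro A _ _ W _ _ _ ρ hA hirr hf hd P hnn
    haveI := hirr
    obtain ⟨l, K, hKn, hK, hirr', hf', hKZ, hcen, P', hP'c, hP'n⟩ := exists_quotient hp7 N
      (fun A' _ _ W' _ _ _ τ' hA' => ih _ hA' A' W' τ' rfl) hA.le ρ hf hd P hnn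
    haveI := hirr'
    set σ := lift (twistRep l ρ) K hK with hσ
    obtain ⟨-, hbig, hspec⟩ := one_facts hp7 P' hP'c hP'n σ hf' (by omega)
    have hsyl : ∀ R : Sylow p (A ⧸ K), Nat.card R = p := fun R => by
      rw [R.card_eq_multiplicity, ← P'.card_eq_multiplicity, hP'c]
    refine ⟨hbig, ?_, ?_, ?_⟩
    · intro x hx hxZ c
      have hx' : (x : A ⧸ K) ≠ 1 := fun h => hxZ ((hcen x).1 (h ▸ one_mem _))
      have h1 := (hspec _ (hx.map (QuotientGroup.mk' K)) hx').1 (((l x⁻¹ : ℂˣ) : ℂ) * c)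
      have he : eig σ (x : A ⧸ K) (((l x⁻¹ : ℂˣ) : ℂ) * c) = eig ρ x c := by
        ext v
        rw [mem_eig, mem_eig, mul_smul]
        show ((l x⁻¹ : ℂˣ) : ℂ) • ρ x v = _ ↔ _
        exact (smul_right_injective W (Units.ne_zero _)).eq_iff
      exact (LinearEquiv.ofEq _ _ he).finrank_eq ▸ h1
    · intro x hx
      obtain ⟨R, hR⟩ := (hx.map (QuotientGroup.mk' K)).exists_sylow
      have h1 := pow_card_eq_one' (x := (⟨_, hR⟩ : (R : Subgroup (A ⧸ K))))
      rw [show Nat.card (R : Subgroup (A ⧸ K)) = p from hsyl R] at h1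
      refine hKZ ((QuotientGroup.eq_one_iff _).1 ?_)
      rw [QuotientGroup.mk_pow]
      exact congrArg Subtype.val h1
    · intro x y hx hy hxy hxZ
      have hx' : (x : A ⧸ K) ≠ 1 := fun h => hxZ ((hcen x).1 (h ▸ one_mem _))
      obtain ⟨R, hR⟩ := (hx.map (QuotientGroup.mk' K)).exists_sylow
      have hRz : Subgroup.zpowers (x : A ⧸ K) = R := by
        refine Subgroup.eq_of_le_of_card_ge (Subgroup.zpowers_le.2 hR) ?_
        have h1 := pow_card_eq_one' (x := (⟨_, hR⟩ : (R : Subgroup (A ⧸ K))))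
        rw [show Nat.card (R : Subgroup (A ⧸ K)) = p from hsyl R] at h1
        have h1' : (x : A ⧸ K) ^ p = 1 := congrArg Subtype.val h1
        rw [hsyl R, Nat.card_zpowers, orderOf_eq_prime h1' hx']
      obtain ⟨T, hT⟩ : ∃ T : Sylow p (A ⧸ K), Subgroup.zpowers (x : A ⧸ K) ⊔
          Subgroup.zpowers (y : A ⧸ K) ≤ (T : Subgroup (A ⧸ K)) := by
        refine IsPGroup.exists_le_sylow ?_
        refine IsPGroup.to_sup_of_normal_right' (hx.map (QuotientGroup.mk' K)).zpowers
          (hy.map (QuotientGroup.mk' K)).zpowers ?_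
        rw [Subgroup.zpowers_le, Subgroup.mem_normalizer_iff]
        intro h
        have hc : Commute (x : A ⧸ K) (y : A ⧸ K) := congrArg (QuotientGroup.mk' K) hxy
        constructor
        · rintro ⟨i, rfl⟩
          exact ⟨i, (mul_inv_eq_iff_eq_mul.2 (hc.zpow_right i).eq).symm⟩
        · intro hh
          obtain ⟨i, hi⟩ := hh
          refine ⟨i, ?_⟩
          have h2 : h = (x : A ⧸ K)⁻¹ * ((y : A ⧸ K) ^ i) * (x : A ⧸ K) := by
            rw [show (y : A ⧸ K) ^ i = (x : A ⧸ K) * h * (x : A ⧸ K)⁻¹ from hi]; group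
          rw [h2, mul_assoc, ← (hc.zpow_right i).eq, inv_mul_cancel_left]
      have hTz : Subgroup.zpowers (x : A ⧸ K) = T := by
        refine Subgroup.eq_of_le_of_card_ge (le_sup_left.trans hT) ?_
        rw [hRz, hsyl, hsyl]
      have h2 : (y : A ⧸ K) ∈ Subgroup.zpowers (x : A ⧸ K) :=
        hTz ▸ hT (Subgroup.mem_sup_right (Subgroup.mem_zpowers _))
      obtain ⟨i, hi⟩ := h2
      refine ⟨i, hKZ ((QuotientGroup.eq_one_iff _).1 ?_)⟩
      rw [QuotientGroup.mk_mul, QuotientGroup.mk_inv, QuotientGroup.mk_zpow,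
        show (x : A ⧸ K) ^ i = (y : A ⧸ K) from hi, inv_mul_cancel]

/-- **The reduction.** A faithful irreducible character of degree at most `p - 3` of a group with
a non-normal Sylow subgroup lives, after a twist, on a central quotient whose Sylow subgroup has
order `p`. -/
theorem exists_reduced (hp7 : 7 < p) (P : Sylow p G) (hnn : ¬ (P : Subgroup G).Normal)
    (χ : G → ℂ) (hχ : IsIrrCharacter G χ) (hfaith : ∀ g : G, χ g = χ 1 → g = 1)
    (hd : H12.degree χ + 3 ≤ p) :
    ∃ (K : Subgroup G) (_ : K.Normal), K ≤ Subgroup.center G ∧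
      Nonempty ((G ⧸ K) ⧸ Subgroup.center (G ⧸ K) ≃* G ⧸ Subgroup.center G) ∧
      ∃ P' : Sylow p (G ⧸ K), Nat.card P' = p ∧ ¬ (P' : Subgroup (G ⧸ K)).Normal ∧
        ∃ ζ : G ⧸ K → ℂ, IsIrrCharacter (G ⧸ K) ζ ∧ (∀ g, ζ g = ζ 1 → g = 1) ∧
          H12.degree ζ = H12.degree χ := by
  classical
  obtain ⟨n, ρ, hρ, rfl⟩ := hχ
  haveI := hρ
  rw [H12.degree_character] at hd
  have hf : ∀ g, ρ g = 1 → g = 1 := fun g hg => hfaith g (by
    simp [Representation.character, hg])
  obtain ⟨l, K, hKn, hK, hirr, hf', hKZ, hcen, P', hP'c, hP'n⟩ := exists_quotient hp7 (Nat.card G)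
    (fun A _ _ W _ _ _ τ _ => good_aux hp7 _ A W τ rfl) le_rfl ρ hf hd P hnn
  haveI := hirr
  refine ⟨K, hKn, hKZ, ?_, P', hP'c, hP'n, (lift (twistRep l ρ) K hK).character,
    H12.isIrrCharacter_character _,
    fun g hg => hf' g ((H12.character_eq_finrank_iff _ g).1 (by
      simpa [Representation.char_one] using hg)),
    by rw [H12.degree_character, H12.degree_character]⟩
  set φ := (QuotientGroup.mk' (Subgroup.center (G ⧸ K))).comp (QuotientGroup.mk' K) with hφ
  have hker : MonoidHom.ker φ = Subgroup.center G := by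
    ext g
    rw [MonoidHom.mem_ker, hφ, MonoidHom.comp_apply]
    exact (QuotientGroup.eq_one_iff _).trans (hcen g)
  exact ⟨((QuotientGroup.quotientMulEquivOfEq hker.symm).trans
    (QuotientGroup.quotientKerEquivOfSurjective φ ((QuotientGroup.mk'_surjective _).comp
      (QuotientGroup.mk'_surjective _)))).symm⟩

end H28.SmallDeg
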