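import Cfsg.Agent.H28.SmallDeg.Reduce
import Cfsg.Agent.H28.SmallDeg.OneAll
import Cfsg.Agent.H14.SmallDegreeSylow
import Cfsg.Agent.H15.PSubTwo.Structure
import Cfsg.Agent.H65.BaerSuzuki

/-!
Reduction to a Sylow subgroup of order `p` for faithful irreducible characters of degree at most
`p - 2`, `p > 5` (helper28), by the argument of Feit and Thompson.
-/

set_option autoImplicit false
set_option linter.unusedSectionVars false
set_option linter.style.haveILetI false
set_option maxHeartbeats 200000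

open Cfsg

namespace H28.SmallDeg.Two

open Module

universe u

variable {G : Type u} [Group G] [Finite G] {V : Type} [AddCommGroup V] [Module ℂ V]
  [FiniteDimensional ℂ V] {p : ℕ} [hp : Fact p.Prime]

/-- The induction hypothesis. -/
def Below (p N : ℕ) : Prop :=
  ∀ (A : Type u) [Group A] [Finite A] (W : Type) [AddCommGroup W] [Module ℂ W]
    [FiniteDimensional ℂ W] (τ : Representation ℂ A W), Nat.card A < N → τ.IsIrreducible →
    (∀ a, τ a = 1 → a = 1) → finrank ℂ W + 2 ≤ p →
    ∀ Q : Sylow p A, ¬ (Q : Subgroup A).Normal → Good p τ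

/-- The twist, with no central `p`-elements. -/
theorem twist_basic (hd : finrank ℂ V + 2 ≤ p) (ρ : Representation ℂ G V) [ρ.IsIrreducible]
    (hf : ∀ g, ρ g = 1 → g = 1) (P : Sylow p G) (hnn : ¬ (P : Subgroup G).Normal) :
    ∃ (l : G →* ℂˣ) (K : Subgroup G) (_ : K.Normal) (hK : ∀ k ∈ K, twistRep l ρ k = 1),
      (lift (twistRep l ρ) K hK).IsIrreducible ∧
      (∀ g, lift (twistRep l ρ) K hK g = 1 → g = 1) ∧ K ≤ Subgroup.center G ∧
      (∀ g : G, (g : G ⧸ K) ∈ Subgroup.center (G ⧸ K) ↔ g ∈ Subgroup.center G) ∧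
      (∀ w ∈ Subgroup.center (G ⧸ K), IsPel p w → w = 1) ∧
      ¬ ((P.mapSurjective (f := QuotientGroup.mk' K) (QuotientGroup.mk'_surjective _) :
        Sylow p (G ⧸ K)) : Subgroup (G ⧸ K)).Normal := by
  classical
  haveI := H12.nontrivial_of_isIrreducible ρ
  obtain ⟨l, hl⟩ := exists_twist ρ (H12.finrank_pos_of_isIrreducible ρ) (p := p) (by omega)
  set σ := twistRep l ρ with hσ
  have hσa : ∀ (g : G) (v : V), σ g v = ((l g⁻¹ : ℂˣ) : ℂ) • ρ g v := fun _ _ => rfl
  haveI : σ.IsIrreducible := irr_mk _ fun W hW => irr_cases ρ fun g v hv => by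
    have h := W.smul_mem ((l g : ℂˣ) : ℂ) (hW g v hv)
    rwa [hσa, smul_smul, ← Units.val_mul, ← map_mul, mul_inv_cancel, map_one, Units.val_one,
      one_smul] at h
  set K := MonoidHom.ker σ with hK
  have hscal : ∀ k ∈ K, ∀ v, ρ k v = (l k : ℂ) • v := fun k hk v => by
    have h : σ k v = v := by rw [show σ k = 1 from hk]; rfl
    rwa [hσa, map_inv, Units.val_inv_eq_inv_val, inv_smul_eq_iff₀ (Units.ne_zero _)] at h
  have hKZ : K ≤ Subgroup.center G := fun k hk => mem_center_of_scalar hf (hscal k hk)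
  have hcen : ∀ g : G, (g : G ⧸ K) ∈ Subgroup.center (G ⧸ K) ↔ g ∈ Subgroup.center G := by
    intro g
    refine ⟨fun h => Subgroup.mem_center_iff.2 fun s => ?_, fun h =>
      Subgroup.mem_center_iff.2 fun s => ?_⟩
    · have hc : s * g * (g * s)⁻¹ ∈ K := (QuotientGroup.eq_one_iff _).1 (by
        rw [QuotientGroup.mk_mul, QuotientGroup.mk_inv, QuotientGroup.mk_mul,
          QuotientGroup.mk_mul, ← Subgroup.mem_center_iff.1 h (s : G ⧸ K), mul_inv_cancel])
      refine mul_inv_eq_one.1 (hf _ (LinearMap.ext fun v => ?_))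
      rw [hscal _ hc v, map_mul, map_mul, map_inv, map_mul, mul_comm (l s), mul_inv_cancel,
        Units.val_one, one_smul]
      rfl
    · induction s using QuotientGroup.induction_on with
      | _ s => rw [← QuotientGroup.mk_mul, ← QuotientGroup.mk_mul, Subgroup.mem_center_iff.1 h s]
  refine ⟨l, K, inferInstance, fun _ hk => hk, lift_irr σ K _, lift_faith σ, hKZ, hcen, ?_, ?_⟩
  swap
  · set P' := P.mapSurjective (f := QuotientGroup.mk' K) (QuotientGroup.mk'_surjective _) with hP'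
    have hnn' : ¬ (P' : Subgroup (G ⧸ K)).Normal := by
      intro hN'
      refine hnn (normal_of_forall_mem fun x hx => ?_)
      have h1 := mem_of_normal hN' (hx.map (QuotientGroup.mk' K))
      rw [hP', Sylow.coe_mapSurjective] at h1
      obtain ⟨y, hy, hyx⟩ := h1
      have hk : y⁻¹ * x ∈ K := QuotientGroup.eq.1 hyx
      have hc : Commute y⁻¹ x := by
        have h2 := Subgroup.mem_center_iff.1 (hKZ hk) y
        rw [mul_inv_cancel_left] at h2
        have h3 : Commute y x := by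
          show y * x = x * y
          have h4 : x * y = y * (y⁻¹ * x * y) := by group
          rw [h4, ← h2]
        exact h3.inv_left
      rw [show x = y * (y⁻¹ * x) by group]
      exact mul_mem hy (central_pel_mem (hKZ hk)
        (pel_mul (pel_inv (isPel_of_mem P.isPGroup' hy)) hx hc) P)
    exact hnn'
  intro w hw hwp
  induction w using QuotientGroup.induction_on with
  | _ w =>
    obtain ⟨z, hz, hzw⟩ := exists_pel_preimage (QuotientGroup.mk' K) (g := w) hwp
    have hzw' : (z : G ⧸ K) = (w : G ⧸ K) := hzw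
    obtain ⟨a, ha⟩ := exists_eig_top ρ (Subgroup.mem_center_iff.1 ((hcen z).1 (hzw' ▸ hw)))
    have ha' : ∀ v, ρ z v = a • v := fun v => mem_eig.1 (ha ▸ Submodule.mem_top)
    rw [← hzw']
    refine (QuotientGroup.eq_one_iff _).2 (LinearMap.ext fun v => ?_)
    rw [hσa, ha' v, hl z hz a ha', smul_smul, ← Units.val_mul, ← map_mul, inv_mul_cancel, map_one,
      Units.val_one, one_smul]
    rfl


/-- Good groups have a twist with Sylow subgroups of order `p`. -/
theorem good_twist {A : Type u} [Group A] [Finite A] {W : Type} [AddCommGroup W] [Module ℂ W]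
    [FiniteDimensional ℂ W] {τ : Representation ℂ A W} [τ.IsIrreducible]
    (hf : ∀ a, τ a = 1 → a = 1) (hd : finrank ℂ W + 2 ≤ p) (hG : Good p τ) (P : Sylow p A)
    (hnn : ¬ (P : Subgroup A).Normal) :
    ∃ (l : A →* ℂˣ) (K : Subgroup A) (_ : K.Normal) (hK : ∀ k ∈ K, twistRep l τ k = 1),
      (lift (twistRep l τ) K hK).IsIrreducible ∧
      (∀ g, lift (twistRep l τ) K hK g = 1 → g = 1) ∧ K ≤ Subgroup.center A ∧
      ∃ P' : Sylow p (A ⧸ K), Nat.card P' = p ∧ ¬ (P' : Subgroup (A ⧸ K)).Normal := by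
  obtain ⟨l, K, hKn, hK, hirr, hf', hKZ, hcen, hdet, hnn'⟩ := twist_basic hd τ hf P hnn
  refine ⟨l, K, hKn, hK, hirr, hf', hKZ, _, ?_, hnn'⟩
  set P' := P.mapSurjective (f := QuotientGroup.mk' K) (QuotientGroup.mk'_surjective _) with hP'
  have hPab := H14.SmallDegree.sylow_comm P (H12.isCharacter_character τ)
    (fun g hg => hf g ((H12.character_eq_finrank_iff τ g).1 (by
      simpa [Representation.char_one] using hg)))
    (n := finrank ℂ W) (Representation.char_one τ) (by omega)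
  obtain ⟨x, hx, hx1⟩ : ∃ x ∈ (P : Subgroup A), (x : A ⧸ K) ≠ 1 := by
    by_contra hno
    push Not at hno
    refine hnn' (normal_of_forall_mem fun w hw => ?_)
    obtain ⟨R, hR⟩ := hw.exists_sylow
    obtain ⟨g, hg⟩ := MulAction.exists_smul_eq (A ⧸ K) P' R
    rw [← hg, Sylow.coe_subgroup_smul] at hR
    obtain ⟨y, hy, rfl⟩ := hR
    rw [hP', Sylow.coe_mapSurjective] at hy
    obtain ⟨z, hz, rfl⟩ := hy
    have h1 : QuotientGroup.mk' K z = 1 := hno z hz
    show g * QuotientGroup.mk' K z * g⁻¹ ∈ _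
    rw [h1, mul_one, mul_inv_cancel]
    exact one_mem _
  have hxp : IsPel p x := isPel_of_mem P.isPGroup' hx
  have hxc : x ∉ Subgroup.center A := fun h =>
    hx1 (hdet _ ((hcen x).2 h) (hxp.map (QuotientGroup.mk' K)))
  have hle : (P' : Subgroup (A ⧸ K)) ≤ Subgroup.zpowers (x : A ⧸ K) := by
    rw [hP', Sylow.coe_mapSurjective]
    rintro _ ⟨y, hy, rfl⟩
    obtain ⟨i, hi⟩ := hG.cyclic x y hxp (isPel_of_mem P.isPGroup' hy) (hPab x hx y hy) hxc
    have h1 := hdet _ ((hcen _).2 hi) ((isPel_of_mem P.isPGroup'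
      (mul_mem (inv_mem (zpow_mem hx i)) hy)).map (QuotientGroup.mk' K))
    rw [QuotientGroup.mk_mul, QuotientGroup.mk_inv, QuotientGroup.mk_zpow, inv_mul_eq_one] at h1
    exact ⟨i, h1⟩
  have hxP : (x : A ⧸ K) ∈ (P' : Subgroup (A ⧸ K)) := by
    rw [hP', Sylow.coe_mapSurjective]
    exact ⟨x, hx, rfl⟩
  have hpw : (x : A ⧸ K) ^ p = 1 :=
    hdet _ ((hcen _).2 (hG.pow_mem x hxp)) ((hxp.pow p).map (QuotientGroup.mk' K))
  rw [le_antisymm hle (Subgroup.zpowers_le.2 hxP), Nat.card_zpowers]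
  exact orderOf_eq_prime hpw hx1

section Step

variable {ρ : Representation ℂ G V} [ρ.IsIrreducible] (hf : ∀ g, ρ g = 1 → g = 1)
  (hd : finrank ℂ V + 2 ≤ p) (hB : Below.{u} p (Nat.card G))

include hd hB in
/-- The constituents of proper subgroups with non-normal image. -/
theorem sub_good {H : Subgroup G} (hH : H ≠ ⊤) {U : Submodule ℂ V}
    {hU : Inv (ρ.comp H.subtype) U} (hirr : (res (ρ.comp H.subtype) U hU).IsIrreducible)
    (hns : ¬ SN p (res (ρ.comp H.subtype) U hU)) :
    Good p (lift (res (ρ.comp H.subtype) U hU) (MonoidHom.ker (res (ρ.comp H.subtype) U hU)) (fun _ hk => hk)) := by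
  haveI := hirr
  set τ := res (ρ.comp H.subtype) U hU
  obtain ⟨Q⟩ : Nonempty (Sylow p (H ⧸ MonoidHom.ker τ)) := inferInstance
  refine hB _ _ _ ((card_quot_le _).trans_lt
    (lt_of_le_of_ne (Subgroup.card_le_card_group H)
      fun he => hH (Subgroup.eq_top_of_card_eq _ he)))
    (lift_irr τ _ _) (lift_faith τ) ?_ Q fun h => hns (SN_of_normal τ _ (fun _ hk => hk) h)
  have := Submodule.finrank_le U
  omega

include hd hB in
theorem sub_big {H : Subgroup G} (hH : H ≠ ⊤) {W : Submodule ℂ V}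
    {hW : Inv (ρ.comp H.subtype) W} (hns : ¬ SN p (res (ρ.comp H.subtype) W hW)) :
    p ≤ 2 * finrank ℂ W + 1 := by
  obtain ⟨U, hU, hUW, hUirr, hUns⟩ := exists_big _ hW hns
  have h1 := (sub_good hd hB hH hUirr hUns).big
  have h2 := Submodule.finrank_mono hUW
  omega

include hf in
theorem not_SN_top {H : Subgroup G} {R : Sylow p H} (hR : ¬ (R : Subgroup H).Normal) :
    ¬ SN p (res (ρ.comp H.subtype) ⊤ (inv_top _)) := fun h =>
  hR (normal_of_SN (ρ := res (ρ.comp H.subtype) ⊤ (inv_top _))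
    (fun g hg => Subtype.ext (hf _ (LinearMap.ext fun v => (res_eq_one_iff _).1 hg v trivial)))
    h R)

variable {P : Sylow p G} (hnn : ¬ (P : Subgroup G).Normal) (hp5 : 5 < p)

include hf hd hB hnn in
theorem gen_irr :
    Representation.IsIrreducible
      (ρ.comp (pGen p G).subtype : Representation ℂ (pGen p G) V) := by
  by_cases hL : pGen p G = ⊤
  · exact irr_top hL
  have hPL : (P : Subgroup G) ≤ pGen p G := fun x hx =>
    Subgroup.subset_closure (isPel_of_mem P.isPGroup' hx)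
  have hPn : ¬ ((P.subtype hPL : Sylow p (pGen p G)) : Subgroup (pGen p G)).Normal := fun hN =>
    hnn (normal_of_forall_mem fun x hx =>
      mem_of_normal hN (x := (⟨x, Subgroup.subset_closure hx⟩ : pGen p G)) (isPel_coe_iff.1 hx))
  obtain ⟨U, hU, -, hUirr, hUns⟩ := exists_big _ (inv_top _) (not_SN_top hf hPn)
  have h1 := (sub_good hd hB hL hUirr hUns).big
  exact res_irr_of_big ρ _ hU hUirr (by omega)

include hf hd in
theorem sylow_commute (R : Sylow p G) : ∀ a ∈ (R : Subgroup G), ∀ b ∈ (R : Subgroup G),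
    a * b = b * a :=
  H14.SmallDegree.sylow_comm R (H12.isCharacter_character ρ)
    (fun g hg => hf g ((H12.character_eq_finrank_iff ρ g).1 (by
      simpa [Representation.char_one] using hg)))
    (n := finrank ℂ V) (Representation.char_one ρ) (by omega)

/-- The pair subgroup used for a non-central element with a large eigenspace. -/
def pairGen (x g : G) : Subgroup G := Subgroup.closure ({x, g * x * g⁻¹} : Set G)

theorem mem_pairGen_left (x g : G) : x ∈ pairGen x g :=
  Subgroup.subset_closure (Set.mem_insert _ _)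

theorem mem_pairGen_right (x g : G) : g * x * g⁻¹ ∈ pairGen x g :=
  Subgroup.subset_closure (Set.mem_insert_of_mem _ rfl)

include hf hd hB hnn in
/-- A constituent of a pair subgroup in which both generators are non-central. -/
theorem pair_setup {x : G} (hx : IsPel p x) (hxZ : x ∉ Subgroup.center G) {c : ℂ}
    (hc : p ≤ 2 * finrank ℂ (eig ρ x c) + 1) :
    ∃ (g : G) (U : Submodule ℂ V) (hU : Inv (ρ.comp (pairGen x g).subtype) U),
      pairGen x g ≠ ⊤ ∧ (res (ρ.comp (pairGen x g).subtype) U hU).IsIrreducible ∧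
      ¬ SN p (res (ρ.comp (pairGen x g).subtype) U hU) ∧
      ((⟨x, mem_pairGen_left x g⟩ : pairGen x g) :
          pairGen x g ⧸ MonoidHom.ker (res (ρ.comp (pairGen x g).subtype) U hU)) ∉
        Subgroup.center _ ∧
      ((⟨g * x * g⁻¹, mem_pairGen_right x g⟩ : pairGen x g) :
          pairGen x g ⧸ MonoidHom.ker (res (ρ.comp (pairGen x g).subtype) U hU)) ∉
        Subgroup.center _ := by
  classical
  by_cases hall : ∀ g : G, IsPGroup p ↥(Subgroup.closure ({x, g * x * g⁻¹} : Set G))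
  · haveI := gen_irr hf hd hB hnn
    have hxQ := H65.mem_pCore_of_pairs hall
    have hcomm : ∀ l ∈ pGen p G, l * x = x * l := by
      intro l hl
      induction hl using Subgroup.closure_induction with
      | mem y hy =>
        obtain ⟨R, hR⟩ := IsPel.exists_sylow hy
        exact sylow_commute hf hd R y hR x (H1.pCore_le_sylow R hxQ)
      | one => rw [one_mul, mul_one]
      | mul a b _ _ ha hb => exact (Commute.mul_left ha hb :)
      | inv a _ ha => exact (Commute.inv_left ha :)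
    have hxL : x ∈ pGen p G := Subgroup.subset_closure hx
    obtain ⟨a, ha⟩ := exists_eig_top (ρ.comp (pGen p G).subtype) (z := ⟨x, hxL⟩)
      fun g => Subtype.ext (hcomm g g.2)
    exact absurd (mem_center_of_eig_top hf ha) hxZ
  push Not at hall
  obtain ⟨g, hg⟩ := hall
  set y := g * x * g⁻¹ with hy
  set K := pairGen x g with hK
  have hxK : x ∈ K := Subgroup.subset_closure (Set.mem_insert _ _)
  have hyK : y ∈ K := Subgroup.subset_closure (Set.mem_insert_of_mem _ rfl)
  have hcy : p ≤ 2 * finrank ℂ (eig ρ y c) + 1 := by rw [hy, eig_conj]; exact hc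
  -- the subgroup is proper
  have hKne : K ≠ ⊤ := by
    intro hKt
    set W := eig ρ x c ⊓ eig ρ y c with hW
    have hscal : ∀ k ∈ K, ∃ a : ℂ, ∀ v ∈ W, ρ k v = a • v := by
      intro k hk
      induction hk using Subgroup.closure_induction with
      | mem z hz =>
        rcases hz with rfl | hz
        · exact ⟨c, fun v hv => mem_eig.1 hv.1⟩
        · rw [Set.mem_singleton_iff] at hz
          subst hz
          exact ⟨c, fun v hv => mem_eig.1 hv.2⟩
      | one => exact ⟨1, fun v _ => by rw [map_one, one_smul]; rfl⟩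
      | mul a b _ _ ha hb =>
        obtain ⟨α, hα⟩ := ha
        obtain ⟨β, hβ⟩ := hb
        exact ⟨β * α, fun v hv => by
          rw [map_mul, Module.End.mul_apply, hβ v hv, map_smul, hα v hv, smul_smul]⟩
      | inv a _ ha =>
        obtain ⟨α, hα⟩ := ha
        refine ⟨α⁻¹, fun v hv => ?_⟩
        have h1 : ρ a⁻¹ (ρ a v) = v := by
          rw [← Module.End.mul_apply, ← map_mul, inv_mul_cancel, map_one, Module.End.one_apply]
        rw [hα v hv, map_smul] at h1
        by_cases hα0 : α = 0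
        · rw [hα0, zero_smul] at h1
          rw [← h1]; simp
        · exact (eq_inv_smul_iff₀ hα0).2 h1
    have hWi : Inv ρ W := fun k v hv => by
      obtain ⟨a, ha⟩ := hscal k (hKt ▸ Subgroup.mem_top k)
      rw [ha v hv]
      exact W.smul_mem a hv
    rcases irr_cases ρ hWi with h | h
    · have h1 := finrank_inf_ge (eig ρ x c) (eig ρ y c)
      rw [← hW, h, finrank_bot] at h1
      omega
    · exact hxZ (mem_center_of_eig_top hf (top_le_iff.1 (h ▸ inf_le_left : ⊤ ≤ eig ρ x c)))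
  obtain ⟨R⟩ : Nonempty (Sylow p K) := inferInstance
  have hRn : ¬ (R : Subgroup K).Normal := by
    intro hN
    refine hg ((R.isPGroup'.map K.subtype).to_le ((Subgroup.closure_le _).2 ?_))
    rintro z (rfl | hz)
    · exact ⟨⟨z, hxK⟩, mem_of_normal hN (isPel_coe_iff.1 hx), rfl⟩
    · rw [Set.mem_singleton_iff] at hz
      subst hz
      exact ⟨⟨y, hyK⟩, mem_of_normal hN (isPel_coe_iff.1 (hx.conj g)), rfl⟩
  obtain ⟨U, hU, -, hUirr, hUns⟩ := exists_big _ (inv_top _) (not_SN_top hf hRn)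
  refine ⟨g, U, hU, hKne, hUirr, hUns, ?_⟩
  have hy' : y ∈ ({x, y} : Set G) := Set.mem_insert_of_mem _ rfl
  have key : ∀ a b : G, ∀ ha : a ∈ K, ∀ hb : b ∈ K, ({a, b} : Set G) = {x, y} →
      ((⟨a, ha⟩ : K) : K ⧸ MonoidHom.ker (res (ρ.comp K.subtype) U hU)) ∉ Subgroup.center _ := by
    intro a b ha hb hab hac
    refine hUns ?_
    set τ := res (ρ.comp K.subtype) U hU with hτ
    have hbc : ((⟨b, hb⟩ : K) : K ⧸ MonoidHom.ker τ) ∈ Subgroup.center _ := by
      refine Subgroup.mem_center_iff.2 fun s => ?_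
      induction s using QuotientGroup.induction_on with
      | _ s =>
        obtain ⟨s, hs⟩ := s
        suffices hsuf : ∀ k : G, k ∈ Subgroup.closure ({a, b} : Set G) → ∀ hk : k ∈ K,
            Commute ((⟨k, hk⟩ : K) : K ⧸ MonoidHom.ker τ)
              ((⟨b, hb⟩ : K) : K ⧸ MonoidHom.ker τ) from
          hsuf s (by rw [hab]; exact hs) hs
        have hle : Subgroup.closure ({a, b} : Set G) ≤ K := by rw [hab]; exact le_rfl
        intro k hk'
        induction hk' using Subgroup.closure_induction with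
        | mem z hz =>
          rcases hz with rfl | hz
          · intro hk
            exact (Subgroup.mem_center_iff.1 hac _).symm
          · rw [Set.mem_singleton_iff] at hz
            subst hz
            exact fun hk => Commute.refl _
        | one => exact fun hk => Commute.one_left _
        | mul u w hu hw hu' hw' => exact fun hk => (hu' (hle hu)).mul_left (hw' (hle hw))
        | inv u hu hu' => exact fun hk => (hu' (hle hu)).inv_left
    obtain ⟨Q⟩ : Nonempty (Sylow p (K ⧸ MonoidHom.ker τ)) := inferInstance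
    refine SN_of_normal τ _ (fun _ hk => hk) (P := Q) ⟨fun w hw s => ?_⟩
    induction s using QuotientGroup.induction_on with
    | _ s =>
      obtain ⟨s, hs⟩ := s
      suffices hsuf : ∀ k : G, k ∈ Subgroup.closure ({a, b} : Set G) → ∀ hk : k ∈ K,
          ((⟨k, hk⟩ : K) : K ⧸ MonoidHom.ker τ) ∈ Subgroup.center _ by
        rw [← Subgroup.mem_center_iff.1 (hsuf s (by rw [hab]; exact hs) hs) w,
          mul_inv_cancel_right]
        exact hw
      have hle : Subgroup.closure ({a, b} : Set G) ≤ K := by rw [hab]; exact le_rfl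
      intro k hk'
      induction hk' using Subgroup.closure_induction with
      | mem z hz =>
        rcases hz with rfl | hz
        · exact fun _ => hac
        · rw [Set.mem_singleton_iff] at hz
          subst hz
          exact fun _ => hbc
      | one => exact fun _ => one_mem (Subgroup.center (K ⧸ MonoidHom.ker τ))
      | mul u w hu hw hu' hw' => exact fun _ => mul_mem (hu' (hle hu)) (hw' (hle hw))
      | inv u hu hu' => exact fun _ => inv_mem (hu' (hle hu))
  exact ⟨key x y hxK hyK rfl, key y x hyK hxK (Set.pair_comm y x)⟩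

omit hp in
/-- An eigenvalue of an element killed by a quadratic. -/
theorem eq_of_quad {z : G} {a b c : ℂ}
    (h : ∀ v, ρ z (ρ z v) - (a + b) • ρ z v + (a * b) • v = 0) {v : V} (hv : v ∈ eig ρ z c)
    (hv0 : v ≠ 0) : c = a ∨ c = b := by
  have h1 := h v
  rw [mem_eig.1 hv, map_smul, mem_eig.1 hv, smul_smul, smul_smul, ← sub_smul, ← add_smul,
    smul_eq_zero] at h1
  have h2 : (c - a) * (c - b) = 0 := by linear_combination h1.resolve_right hv0
  rcases mul_eq_zero.1 h2 with h3 | h3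
  · exact Or.inl (sub_eq_zero.1 h3)
  · exact Or.inr (sub_eq_zero.1 h3)

include hf hd hB hnn hp5 in
/-- A `p`-element with two eigenvalues, one of large multiplicity, is central. -/
theorem mem_center_of_two_eig {x : G} (hx : IsPel p x) {a b : ℂ}
    (hc : p ≤ 2 * finrank ℂ (eig ρ x a) + 1)
    (h : ∀ v, ρ x (ρ x v) - (a + b) • ρ x v + (a * b) • v = 0) : x ∈ Subgroup.center G := by
  by_contra hxZ
  obtain ⟨g, U, hU, hKne, hUirr, hUns, hxn, -⟩ := pair_setup hf hd hB hnn hx hxZ hc
  set K := pairGen x g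
  set τ := res (ρ.comp K.subtype) U hU with hτ
  have hG' := sub_good hd hB hKne hUirr hUns
  have hU1 := hG'.big
  have hs : ∀ c, finrank ℂ (eig τ (⟨x, mem_pairGen_left x g⟩ : K) c) ≤ 1 := fun c =>
    hG'.simple _ ((isPel_coe_iff.1 (show IsPel p ((⟨x, mem_pairGen_left x g⟩ : K) : G) from hx)).map
      (QuotientGroup.mk' _)) hxn c
  have hle : (⊤ : Submodule ℂ U) ≤
      eig τ (⟨x, mem_pairGen_left x g⟩ : K) a ⊔ eig τ (⟨x, mem_pairGen_left x g⟩ : K) b := by
    rw [← iSup_eig τ (⟨x, mem_pairGen_left x g⟩ : K)]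
    refine iSup_le fun c v hv => ?_
    by_cases hv0 : v = 0
    · rw [hv0]; exact zero_mem _
    have hv' : (v : V) ∈ eig ρ x c := mem_eig.2 (congrArg Subtype.val (mem_eig.1 hv))
    rcases eq_of_quad h hv' (fun h0 => hv0 (Subtype.ext h0)) with rfl | rfl
    · exact Submodule.mem_sup_left hv
    · exact Submodule.mem_sup_right hv
  have h1 := (Submodule.finrank_mono hle).trans
    (Submodule.finrank_add_le_finrank_add_finrank _ _)
  rw [finrank_top] at h1
  have := hs a
  have := hs b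
  omega

include hf hd hB hnn hp5 in
/-- Non-central `p`-elements have small eigenspaces. -/
theorem mem_center_of_big_eig {x : G} (hx : IsPel p x) {c : ℂ}
    (hc : p ≤ 2 * finrank ℂ (eig ρ x c) + 1) : x ∈ Subgroup.center G := by
  classical
  by_contra hxZ
  obtain ⟨g, U, hU, hKne, hUirr, hUns, hxn, hyn⟩ := pair_setup hf hd hB hnn hx hxZ hc
  haveI := hUirr
  set K := pairGen x g with hKdef
  set τ := res (ρ.comp K.subtype) U hU with hτ
  set y := g * x * g⁻¹ with hy
  let xK : K := ⟨x, mem_pairGen_left x g⟩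
  let yK : K := ⟨y, mem_pairGen_right x g⟩
  have hcy : p ≤ 2 * finrank ℂ (eig ρ y c) + 1 := by rw [hy, eig_conj]; exact hc
  have hxKp : IsPel p xK := isPel_coe_iff.1 (show IsPel p (xK : G) from hx)
  have hyKp : IsPel p yK := isPel_coe_iff.1 (show IsPel p (yK : G) from hx.conj g)
  have hG' := sub_good hd hB hKne hUirr hUns
  have hU1 := hG'.big
  obtain ⟨W, hW, hUW⟩ := exists_compl _ hU
  have hdim : finrank ℂ U + finrank ℂ W = finrank ℂ V := Submodule.finrank_add_eq_of_isCompl hUW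
  -- equality everywhere
  have hgen : ∀ z : K, IsPel p z → p ≤ 2 * finrank ℂ (eig ρ (z : G) c) + 1 →
      (z : K ⧸ MonoidHom.ker τ) ∉ Subgroup.center _ →
      2 * finrank ℂ U + 1 = p ∧ finrank ℂ V + 2 = p ∧
        0 < finrank ℂ ↥(eig ρ (z : G) c ⊓ U) ∧ W ≤ eig ρ (z : G) c := by
    intro z hz hzc hzn
    have h1 : finrank ℂ (eig τ z c) ≤ 1 := hG'.simple _ (hz.map (QuotientGroup.mk' _)) hzn c
    rw [hτ, finrank_eig_res hU z c] at h1
    have h2 : finrank ℂ ↥(eig ρ (z : G) c ⊓ U) ≤ 1 := h1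
    have h3 := finrank_inf_ge (eig ρ (z : G) c) U
    refine ⟨by omega, by omega, by omega, ?_⟩
    have hsplit : eig ρ (z : G) c ≤ (eig ρ (z : G) c ⊓ U) ⊔ (eig ρ (z : G) c ⊓ W) := by
      intro v hv
      obtain ⟨u, hu, w, hw, rfl⟩ := Submodule.mem_sup.1
        (hUW.sup_eq_top ▸ Submodule.mem_top : v ∈ U ⊔ W)
      have he := mem_eig.1 hv
      rw [map_add, smul_add] at he
      have h4 : ρ (z : G) u - c • u = c • w - ρ (z : G) w := by
        rw [sub_eq_sub_iff_add_eq_add, he, add_comm]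
      have h5 : ρ (z : G) u - c • u ∈ U ⊓ W :=
        ⟨U.sub_mem (hU z u hu) (U.smul_mem c hu),
          h4 ▸ W.sub_mem (W.smul_mem c hw) (hW z w hw)⟩
      rw [hUW.inf_eq_bot, Submodule.mem_bot, sub_eq_zero] at h5
      refine Submodule.mem_sup.2 ⟨u, ⟨mem_eig.2 h5, hu⟩, w, ⟨mem_eig.2 ?_, hw⟩, rfl⟩
      rw [h5, add_right_inj] at he
      exact he
    have h6 := (Submodule.finrank_mono hsplit).trans
      (Submodule.finrank_add_le_finrank_add_finrank _ _)
    have h7 : eig ρ (z : G) c ⊓ W = W := Submodule.eq_of_le_of_finrank_le inf_le_right (by omega)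
    exact h7 ▸ inf_le_left
  obtain ⟨heU, hdV, hpos, hWx⟩ := hgen xK hxKp hc hxn
  obtain ⟨-, -, -, hWy⟩ := hgen yK hyKp hcy hyn
  -- the character on the complement
  have hscal : ∀ k ∈ K, ∃ a : ℂ, ∀ v ∈ W, ρ k v = a • v := by
    intro k hk
    induction hk using Subgroup.closure_induction with
    | mem z hz =>
      rcases hz with rfl | hz
      · exact ⟨c, fun v hv => mem_eig.1 (hWx hv)⟩
      · rw [Set.mem_singleton_iff] at hz
        subst hz
        exact ⟨c, fun v hv => mem_eig.1 (hWy hv)⟩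
    | one => exact ⟨1, fun v _ => by rw [map_one, one_smul]; rfl⟩
    | mul a b _ _ ha hb =>
      obtain ⟨α, hα⟩ := ha
      obtain ⟨β, hβ⟩ := hb
      exact ⟨β * α, fun v hv => by
        rw [map_mul, Module.End.mul_apply, hβ v hv, map_smul, hα v hv, smul_smul]⟩
    | inv a _ ha =>
      obtain ⟨α, hα⟩ := ha
      refine ⟨α⁻¹, fun v hv => ?_⟩
      have h1 : ρ a⁻¹ (ρ a v) = v := by
        rw [← Module.End.mul_apply, ← map_mul, inv_mul_cancel, map_one, Module.End.one_apply]
      rw [hα v hv, map_smul] at h1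
      by_cases hα0 : α = 0
      · rw [hα0, zero_smul] at h1
        rw [← h1]; simp
      · exact (eq_inv_smul_iff₀ hα0).2 h1
  obtain ⟨w₀, hw₀, hw₀0⟩ := Submodule.exists_mem_ne_zero_of_ne_bot (p := W) (by
    intro h0
    rw [h0, finrank_bot] at hdim
    omega)
  choose sW hsW using fun k : K => hscal k k.2
  let ψ₀ : K →* ℂ :=
    { toFun := sW
      map_one' := smul_left_injective ℂ hw₀0 (by
        show sW 1 • w₀ = (1 : ℂ) • w₀
        rw [one_smul, ← hsW 1 w₀ hw₀, OneMemClass.coe_one, map_one]; rfl)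
      map_mul' := fun a b => smul_left_injective ℂ hw₀0 (by
        show sW (a * b) • w₀ = (sW a * sW b) • w₀
        rw [← hsW (a * b) w₀ hw₀, Subgroup.coe_mul, map_mul, Module.End.mul_apply,
          hsW b w₀ hw₀, map_smul, hsW a w₀ hw₀, smul_smul, mul_comm]) }
  let ψ : K →* ℂˣ := ψ₀.toHomUnits
  have hψ : ∀ (k : K) (v : V), v ∈ W → ρ (k : G) v = (ψ k : ℂ) • v := fun k v hv => hsW k v hv
  -- the twisted image on `U`
  haveI := lift_irr τ (MonoidHom.ker τ) (fun _ hk => hk)
  obtain ⟨Q⟩ : Nonempty (Sylow p (K ⧸ MonoidHom.ker τ)) := inferInstance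
  obtain ⟨l, KA, hKAn, hKA, hirrA, hfA, hKAZ, P', hP'c, hP'n⟩ :=
    good_twist (lift_faith τ) (by omega) hG' Q fun h => hUns (SN_of_normal τ _ (fun _ hk => hk) h)
  haveI := hirrA
  set π : K →* (K ⧸ MonoidHom.ker τ) ⧸ KA :=
    (QuotientGroup.mk' KA).comp (QuotientGroup.mk' (MonoidHom.ker τ)) with hπdef
  have hπs : Function.Surjective π :=
    (QuotientGroup.mk'_surjective _).comp (QuotientGroup.mk'_surjective _)
  set l₀ : K →* ℂˣ := l.comp (QuotientGroup.mk' (MonoidHom.ker τ)) with hl₀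
  set σ := lift (twistRep l (lift τ (MonoidHom.ker τ) fun _ hk => hk)) KA hKA with hσ
  have hσπ : ∀ (k : K) (v : U), σ (π k) v = ((l₀ k : ℂ)⁻¹) • τ k v := fun k v => by
    show ((l (QuotientGroup.mk' (MonoidHom.ker τ) k)⁻¹ : ℂˣ) : ℂ) • τ k v = _
    rw [map_inv, Units.val_inv_eq_inv_val]
    rfl
  obtain ⟨hl, -, hspec⟩ := one_facts_five hp5 P' hP'c hP'n σ hfA (by omega)
  have hπx : π xK ≠ 1 := fun h => hxn (hKAZ ((QuotientGroup.eq_one_iff _).1 h))
  -- the image is perfect
  have hord : ∀ k : K, IsPel p k → π k ^ p = 1 := fun k hk => by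
    obtain ⟨R, hR⟩ := (hk.map π).exists_sylow
    have h1 := pow_card_eq_one' (x := (⟨π k, hR⟩ : (R : Subgroup ((K ⧸ MonoidHom.ker τ) ⧸ KA))))
    rw [show Nat.card (R : Subgroup ((K ⧸ MonoidHom.ker τ) ⧸ KA)) = p from by
      rw [R.card_eq_multiplicity, ← P'.card_eq_multiplicity, hP'c]] at h1
    exact congrArg Subtype.val h1
  set L := Subgroup.closure {w : (K ⧸ MonoidHom.ker τ) ⧸ KA | w ^ p = 1} with hL
  have hLtop : L = ⊤ := by
    refine top_le_iff.1 fun w _ => ?_
    obtain ⟨⟨k, hk⟩, rfl⟩ := hπs w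
    suffices hsuf : ∀ k : G, k ∈ K → ∀ hk : k ∈ K, π ⟨k, hk⟩ ∈ L from hsuf k hk hk
    intro k hk'
    induction hk' using Subgroup.closure_induction with
    | mem z hz =>
      rcases hz with rfl | hz
      · exact fun _ => Subgroup.subset_closure (hord xK hxKp)
      · rw [Set.mem_singleton_iff] at hz
        subst hz
        exact fun _ => Subgroup.subset_closure (hord yK hyKp)
    | one =>
      intro hk
      rw [show (⟨1, hk⟩ : K) = 1 from rfl, map_one]
      exact one_mem L
    | mul u w hu hw hu' hw' =>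
      intro hk
      rw [show (⟨u * w, hk⟩ : K) = ⟨u, hu⟩ * ⟨w, hw⟩ from rfl, map_mul]
      exact mul_mem (hu' hu) (hw' hw)
    | inv u hu hu' =>
      intro hk
      rw [show (⟨u⁻¹, hk⟩ : K) = (⟨u, hu⟩ : K)⁻¹ from rfl, map_inv]
      exact inv_mem (hu' hu)
  have hperf : commutator ((K ⧸ MonoidHom.ker τ) ⧸ KA) = ⊤ := by
    refine H15.PSubTwo.commutator_eq_top_of_lin fun f => MonoidHom.ext fun w => ?_
    exact DFunLike.congr_fun (hl (f.comp L.subtype)) ⟨w, hLtop ▸ Subgroup.mem_top w⟩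
  -- an element with the same image and equal scalars
  set δ : K →* ℂˣ := ψ * l₀⁻¹ with hδ
  have hker : π xK ∈ (MonoidHom.ker δ).map π := by
    have h1 : commutator ((K ⧸ MonoidHom.ker τ) ⧸ KA) ≤ (MonoidHom.ker δ).map π := by
      rw [commutator_def, ← Subgroup.map_top_of_surjective π hπs, ← Subgroup.map_commutator]
      exact Subgroup.map_mono (Abelianization.commutator_subset_ker δ)
    exact h1 (hperf ▸ Subgroup.mem_top _)
  obtain ⟨s₀, hs₀, hs₀x⟩ := hker
  obtain ⟨s, hs, hse⟩ := exists_pel_preimage (π.prod δ) (g := s₀) (by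
    rw [MonoidHom.prod_apply, hs₀x, show δ s₀ = 1 from hs₀]
    obtain ⟨k, hk⟩ := hxKp.map π
    exact ⟨k, Prod.ext hk (one_pow _)⟩)
  rw [MonoidHom.prod_apply, MonoidHom.prod_apply, Prod.mk.injEq, hs₀x,
    show δ s₀ = 1 from hs₀] at hse
  obtain ⟨hsx, hsδ⟩ := hse
  obtain ⟨n, hn⟩ : ∃ n : K, n = s⁻¹ * xK := ⟨_, rfl⟩
  have hnπ : π n = 1 := by rw [hn, map_mul, map_inv, hsx, inv_mul_cancel]
  have hnU : ∀ v ∈ U, ρ (n : G) v = (l₀ n : ℂ) • v := by
    intro v hv
    have h1 := hσπ n ⟨v, hv⟩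
    rw [hnπ, map_one, Module.End.one_apply, eq_inv_smul_iff₀ (Units.ne_zero _)] at h1
    exact (congrArg Subtype.val h1).symm
  have hncomm : ∀ k : K, Commute n k := by
    intro k
    refine Subtype.ext (eq_one_of_eq hf (LinearMap.ext fun v => ?_))
    obtain ⟨u, hu, w, hw, rfl⟩ := Submodule.mem_sup.1
      (hUW.sup_eq_top ▸ Submodule.mem_top : v ∈ U ⊔ W)
    have hku : ρ (k : G) u ∈ U := hU k u hu
    rw [Subgroup.coe_mul, Subgroup.coe_mul, map_mul, map_mul, Module.End.mul_apply,
      Module.End.mul_apply, map_add, map_add, map_add, map_add, hnU u hu, hnU _ hku, map_smul,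
      hψ n w hw, show ρ (n : G) (ρ (k : G) w) = (ψ n : ℂ) • ρ (k : G) w from hψ n _ (hW k w hw),
      map_smul]
  have hsx' : Commute s xK := by
    have h1 : s * (s * n) = s * n * s := by rw [mul_assoc, (hncomm s).eq]
    rwa [hn, mul_inv_cancel_left] at h1
  have hnp : IsPel p (n : G) :=
    isPel_coe_iff.2 (hn ▸ pel_mul (pel_inv hs) hxKp hsx'.inv_left)
  have hquad : ∀ v, ρ (n : G) (ρ (n : G) v) - ((l₀ n : ℂ) + (ψ n : ℂ)) • ρ (n : G) v +
      ((l₀ n : ℂ) * (ψ n : ℂ)) • v = 0 := by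
    intro v
    obtain ⟨u, hu, w, hw, rfl⟩ := Submodule.mem_sup.1
      (hUW.sup_eq_top ▸ Submodule.mem_top : v ∈ U ⊔ W)
    simp only [map_add, hnU u hu, hψ n w hw, map_smul]
    module
  have hbign : p ≤ 2 * finrank ℂ (eig ρ (n : G) (l₀ n : ℂ)) + 1 := by
    have h1 : U ≤ eig ρ (n : G) (l₀ n : ℂ) := fun v hv => mem_eig.2 (hnU v hv)
    have h2 := Submodule.finrank_mono h1
    omega
  obtain ⟨a, ha⟩ := exists_eig_top ρ (Subgroup.mem_center_iff.1
    (mem_center_of_two_eig hf hd hB hnn hp5 hnp hbign hquad))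
  obtain ⟨u₀, hu₀, hu₀0⟩ := Submodule.exists_mem_ne_zero_of_ne_bot
    (p := eig ρ (xK : G) c ⊓ U) (fun h0 => by rw [h0, finrank_bot] at hpos; omega)
  have hna : ∀ v, ρ (n : G) v = a • v := fun v => mem_eig.1 (ha ▸ Submodule.mem_top)
  have h1 : (l₀ n : ℂ) = a := smul_left_injective ℂ hu₀0 ((hnU u₀ hu₀.2).symm.trans (hna u₀))
  have h2 : (ψ n : ℂ) = a := smul_left_injective ℂ hw₀0 ((hψ n w₀ hw₀).symm.trans (hna w₀))
  have hδn : δ n = 1 := by
    rw [hδ, MonoidHom.mul_apply, MonoidHom.inv_apply,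
      show ψ n = l₀ n from Units.ext (h2.trans h1.symm), mul_inv_cancel]
  have hδx : δ xK = 1 := by
    rw [show xK = s * n by rw [hn, mul_inv_cancel_left], map_mul, hsδ, hδn, one_mul]
  rw [hδ, MonoidHom.mul_apply, MonoidHom.inv_apply, mul_inv_eq_one] at hδx
  have hψx : (ψ xK : ℂ) = c := smul_left_injective ℂ hw₀0
    ((hψ xK w₀ hw₀).symm.trans (mem_eig.1 (hWx hw₀)))
  -- so the twisted image has a fixed vector
  have hfix : (⟨u₀, hu₀.2⟩ : U) ∈ eig σ (π xK) 1 := by
    refine mem_eig.2 ?_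
    rw [one_smul, hσπ, ← hδx, hψx]
    refine Subtype.ext ?_
    show c⁻¹ • ρ x u₀ = u₀
    rw [show ρ x u₀ = c • u₀ from mem_eig.1 hu₀.1]
    exact inv_smul_smul₀ (hψx ▸ Units.ne_zero _) u₀
  obtain ⟨-, hs2⟩ := hspec (π xK) (hxKp.map π) hπx
  have h3 : 0 < finrank ℂ (eig σ (π xK) 1) := Nat.pos_of_ne_zero fun h0 =>
    hu₀0 (congrArg Subtype.val
      ((Submodule.eq_bot_iff _).1 (Submodule.finrank_eq_zero.1 h0) _ hfix))
  omega

include hf hd hB hnn hp5 in
/-- A Sylow subgroup containing a non-central element contains all commuting `p`-elements. -/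
theorem mem_of_commute {R : Sylow p G} {x w : G} (hxR : x ∈ (R : Subgroup G))
    (hxZ : x ∉ Subgroup.center G) (hw : IsPel p w) (hwx : w * x = x * w) :
    w ∈ (R : Subgroup G) := by
  set C := Subgroup.centralizer ({x} : Set G) with hC
  have hRC : (R : Subgroup G) ≤ C := fun y hy =>
    Subgroup.mem_centralizer_singleton_iff.2 (sylow_commute hf hd R y hy x hxR)
  have hCne : C ≠ ⊤ := fun he => hxZ (Subgroup.mem_center_iff.2 fun g =>
    Subgroup.mem_centralizer_singleton_iff.1 (he ▸ Subgroup.mem_top g : g ∈ C))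
  by_cases hN : ((R.subtype hRC : Sylow p C) : Subgroup C).Normal
  · exact mem_of_normal hN (x := (⟨w, Subgroup.mem_centralizer_singleton_iff.2 hwx⟩ : C))
      (isPel_coe_iff.1 hw)
  exfalso
  obtain ⟨U, hU, -, hUirr, hUns⟩ := exists_big _ (inv_top _) (not_SN_top hf hN)
  have hU1 := (sub_good hd hB hCne hUirr hUns).big
  haveI := hUirr
  let x' : C := ⟨x, hRC hxR⟩
  obtain ⟨a, ha⟩ := scalar_of_central_image hUirr (h := x') (by
    refine Subgroup.mem_center_iff.2 fun s => ?_
    induction s using QuotientGroup.induction_on with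
    | _ s =>
      rw [← QuotientGroup.mk_mul, ← QuotientGroup.mk_mul]
      exact congrArg _ (Subtype.ext (Subgroup.mem_centralizer_singleton_iff.1 s.2)))
  have h2 := Submodule.finrank_mono ha
  have h3 : p ≤ 2 * finrank ℂ (eig ρ x a) + 1 := by
    have h4 : finrank ℂ (eig ρ (x' : G) a) = finrank ℂ (eig ρ x a) := rfl
    omega
  exact hxZ (mem_center_of_big_eig hf hd hB hnn hp5 (isPel_of_mem R.isPGroup' hxR) h3)

variable (hdet : ∀ z ∈ Subgroup.center G, IsPel p z → z = 1)

include hf hd hB hnn hp5 hdet in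
/-- The separation property for Sylow subgroups of order greater than `p`. -/
theorem sep (hP : Nat.card P ≠ p) : H14.FTBound.Sep (P : Subgroup G) := by
  classical
  intro g hg a b ha hb
  obtain ⟨⟨x, hx⟩, hx1'⟩ := Subgroup.ne_bot_iff_exists_ne_one.1 ha
  obtain ⟨⟨y, hy⟩, hy1'⟩ := Subgroup.ne_bot_iff_exists_ne_one.1 hb
  rw [Subgroup.mem_inf] at hx hy
  have hx1 : x ≠ 1 := fun h => hx1' (Subtype.ext h)
  have hy1 : y ≠ 1 := fun h => hy1' (Subtype.ext h)
  set A := a • P with hA
  set B := b • P with hB'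
  have hAc : (A : Subgroup G) = (P : Subgroup G).map (MulAut.conj a).toMonoidHom := rfl
  have hBc : (B : Subgroup G) = (P : Subgroup G).map (MulAut.conj b).toMonoidHom := rfl
  rw [← hAc] at hx ⊢
  rw [← hBc] at hy ⊢
  have hxP : IsPel p x := isPel_of_mem A.isPGroup' hx.2
  have hyP : IsPel p y := isPel_of_mem B.isPGroup' hy.2
  have hxZ : x ∉ Subgroup.center G := fun h => hx1 (hdet x h hxP)
  have hyZ : y ∉ Subgroup.center G := fun h => hy1 (hdet y h hyP)
  set C := Subgroup.centralizer ({g} : Set G) with hC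
  let xx : C := ⟨x, hx.1⟩
  let yy : C := ⟨y, hy.1⟩
  obtain ⟨R, hR⟩ := (isPel_coe_iff.1 (show IsPel p (xx : G) from hxP)).exists_sylow
  by_cases hRn : (R : Subgroup C).Normal
  · obtain ⟨T, hT⟩ := (R.isPGroup'.map C.subtype).exists_le_sylow
    have hxy : x * y = y * x := sylow_commute hf hd T x (hT ⟨xx, hR, rfl⟩) y
      (hT ⟨yy, mem_of_normal hRn (isPel_coe_iff.1 (show IsPel p (yy : G) from hyP)), rfl⟩)
    have hyA : y ∈ (A : Subgroup G) := mem_of_commute hf hd hB hnn hp5 hx.2 hxZ hyP hxy.symm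
    have hle : (B : Subgroup G) ≤ A := fun w hw =>
      mem_of_commute hf hd hB hnn hp5 hyA hyZ (isPel_of_mem B.isPGroup' hw)
        (sylow_commute hf hd B w hw y hy.2)
    exact (Subgroup.eq_of_le_of_card_ge hle
      (by rw [A.card_eq_multiplicity, B.card_eq_multiplicity])).symm
  exfalso
  have hCne : C ≠ ⊤ := fun he => hg (Subgroup.mem_center_iff.2 fun w =>
    Subgroup.mem_centralizer_singleton_iff.1 (he ▸ Subgroup.mem_top w : w ∈ C))
  obtain ⟨U, hU, -, hUirr, hUns⟩ := exists_big _ (inv_top _) (not_SN_top hf hRn)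
  haveI := hUirr
  set τ := res (ρ.comp C.subtype) U hU with hτ
  have hG' := sub_good hd hB hCne hUirr hUns
  have hU1 := hG'.big
  have hUle := Submodule.finrank_le U
  -- `p`-elements scalar on `U` are trivial
  have htriv : ∀ s : C, IsPel p s →
      (s : C ⧸ MonoidHom.ker τ) ∈ Subgroup.center _ → s = 1 := by
    intro s hs hsc
    obtain ⟨c, hc⟩ := scalar_of_central_image hUirr hsc
    have h2 := Submodule.finrank_mono hc
    exact Subtype.ext (hdet _ (mem_center_of_big_eig hf hd hB hnn hp5 (isPel_coe_iff.2 hs)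
      (c := c) (by omega)) (isPel_coe_iff.2 hs))
  have hxxp : IsPel p xx := isPel_coe_iff.1 (show IsPel p (xx : G) from hxP)
  have hxc : (xx : C ⧸ MonoidHom.ker τ) ∉ Subgroup.center _ := fun h =>
    hx1 (congrArg Subtype.val (htriv xx hxxp h))
  have hpw : xx ^ p = 1 := htriv _ (hxxp.pow p) (by
    rw [QuotientGroup.mk_pow]; exact hG'.pow_mem _ (hxxp.map (QuotientGroup.mk' _)))
  have hcyc : ∀ s : C, IsPel p s → s * xx = xx * s → s ∈ Subgroup.zpowers xx := by
    intro s hs hsx
    obtain ⟨i, hi⟩ := hG'.cyclic _ _ (hxxp.map (QuotientGroup.mk' _))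
      (hs.map (QuotientGroup.mk' _)) (by rw [← map_mul, ← map_mul, hsx]) hxc
    rw [← map_zpow, ← map_inv, ← map_mul] at hi
    have hcom : Commute (xx ^ i)⁻¹ s := ((show Commute xx s from hsx.symm).zpow_left i).inv_left
    have h1 := htriv _ (pel_mul (isPel_of_mem hxxp.zpowers
      (inv_mem (Subgroup.zpow_mem_zpowers xx i))) hs hcom) hi
    rw [inv_mul_eq_one] at h1
    exact ⟨i, h1⟩
  have hRz : (R : Subgroup C) = Subgroup.zpowers xx := by
    refine le_antisymm (fun s hs => hcyc s (isPel_of_mem R.isPGroup' hs) ?_)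
      (Subgroup.zpowers_le.2 hR)
    obtain ⟨T, hT⟩ := (R.isPGroup'.map C.subtype).exists_le_sylow
    exact Subtype.ext (sylow_commute hf hd T _ (hT ⟨s, hs, rfl⟩) _ (hT ⟨xx, hR, rfl⟩))
  have hxx1 : xx ≠ 1 := fun h => hx1 (congrArg Subtype.val h)
  have hRc : Nat.card R = p := by
    rw [hRz, Nat.card_zpowers]
    exact orderOf_eq_prime hpw hxx1
  -- the image on `U`
  set π := QuotientGroup.mk' (MonoidHom.ker τ) with hπ
  set Q := R.mapSurjective (f := π) (QuotientGroup.mk'_surjective _) with hQ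
  have hQn : ¬ (Q : Subgroup (C ⧸ MonoidHom.ker τ)).Normal := fun h =>
    hUns (SN_of_normal τ _ (fun _ hk => hk) h)
  have hQc : Nat.card Q = p := by
    have h1 : Nat.card Q ∣ Nat.card R := by
      rw [hQ, Sylow.coe_mapSurjective]
      exact Subgroup.card_map_dvd _ _
    rw [hRc] at h1
    refine ((Nat.dvd_prime hp.out).1 h1).resolve_left fun h1 => hQn ?_
    rw [Subgroup.card_eq_one.1 h1]
    infer_instance
  haveI := lift_irr τ (MonoidHom.ker τ) (fun _ hk => hk)
  obtain ⟨hl, -, hspec⟩ := one_facts_five hp5 Q hQc hQn (lift τ (MonoidHom.ker τ) fun _ hk => hk) (lift_faith τ)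
    (by omega)
  have hπx : π xx ≠ 1 := fun h => hxc (by
    show π xx ∈ Subgroup.center _
    rw [h]; exact one_mem _)
  obtain ⟨hs1, hs2⟩ := hspec (π xx) (hxxp.map π) hπx
  -- `x` is trivial on a complement
  obtain ⟨W, hW, hUW⟩ := exists_compl _ hU
  have hdim : finrank ℂ U + finrank ℂ W = finrank ℂ V := Submodule.finrank_add_eq_of_isCompl hUW
  set σ := res (ρ.comp C.subtype) W hW with hσ
  have hWsn : SN p σ := by
    by_contra hns
    have := sub_big hd hB hCne hns
    omega
  set N := MonoidHom.ker σ with hN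
  have hxW : xx ∈ N := by
    by_contra hxN
    have hSN' : SN p (lift σ N fun _ hk => hk) := by
      obtain ⟨M, hMn, hM1, hM2⟩ := hWsn
      refine ⟨M.map (QuotientGroup.mk' N), hMn.map _ (QuotientGroup.mk'_surjective N),
        fun w hw => ?_, ?_⟩
      · induction w using QuotientGroup.induction_on with
        | _ w =>
          obtain ⟨w', hw', he⟩ := exists_pel_preimage (QuotientGroup.mk' N) (g := w) hw
          exact ⟨w', hM1 w' hw', he⟩
      · rintro _ ⟨m, hm, rfl⟩
        obtain ⟨k, hk⟩ := hM2 m hm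
        exact ⟨k, by rw [← map_pow]; exact hk⟩
    have hRN : ((R.mapSurjective (f := QuotientGroup.mk' N) (QuotientGroup.mk'_surjective _) :
        Sylow p (C ⧸ N)) : Subgroup (C ⧸ N)).Normal :=
      normal_of_SN (lift_faith σ) hSN' _
    have hmem : ∀ h : C, IsPel p h → ∃ i : ℤ, (xx ^ i)⁻¹ * h ∈ N := by
      intro h hh
      have h1 := mem_of_normal hRN (hh.map (QuotientGroup.mk' N))
      rw [Sylow.coe_mapSurjective, hRz, MonoidHom.map_zpowers] at h1
      obtain ⟨i, hi⟩ := h1
      refine ⟨i, (QuotientGroup.eq_one_iff _).1 ?_⟩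
      have hi' : (QuotientGroup.mk' N xx) ^ i = QuotientGroup.mk' N h := hi
      show QuotientGroup.mk' N ((xx ^ i)⁻¹ * h) = 1
      rw [map_mul, map_inv, map_zpow, hi', inv_mul_cancel]
    -- `N` has order prime to `p`
    have hNp : ¬ p ∣ Nat.card N := by
      intro hdvd
      obtain ⟨s, hs⟩ := exists_prime_orderOf_dvd_card' p hdvd
      have hs1 : (s : C) ^ p = 1 := by
        rw [← SubmonoidClass.coe_pow, ← hs, pow_orderOf_eq_one, OneMemClass.coe_one]
      obtain ⟨T, hT⟩ := (isPel_of_pow_p hs1).exists_sylow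
      obtain ⟨t, ht⟩ := MulAction.exists_smul_eq C T R
      have h2 : t * (s : C) * t⁻¹ ∈ (R : Subgroup C) := by
        rw [← ht, Sylow.coe_subgroup_smul]
        exact ⟨(s : C), hT, rfl⟩
      have h3 : t * (s : C) * t⁻¹ ∈ N := Subgroup.Normal.conj_mem inferInstance _ s.2 t
      have h4 : t * (s : C) * t⁻¹ ≠ 1 := fun h => by
        rw [conj_eq_one_iff] at h
        have : s = 1 := Subtype.ext h
        rw [this, orderOf_one] at hs
        exact hp.out.ne_one hs.symm
      rw [hRz] at h2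
      haveI : IsCyclic (Subgroup.zpowers xx) :=
        isCyclic_of_prime_card (p := p) (by rw [← hRz]; exact hRc)
      have h5 : (⟨xx, Subgroup.mem_zpowers xx⟩ : Subgroup.zpowers xx) ∈
          Subgroup.zpowers (⟨_, h2⟩ : Subgroup.zpowers xx) :=
        mem_zpowers_of_prime_card (p := p) (by rw [← hRz]; exact hRc)
          (fun h => h4 (congrArg Subtype.val h))
      obtain ⟨j, hj⟩ := h5
      have h6 : (t * (s : C) * t⁻¹) ^ j = xx := congrArg Subtype.val hj
      exact hxN (h6 ▸ zpow_mem h3 j)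
    set L := Subgroup.closure {w : C ⧸ MonoidHom.ker τ | w ^ p = 1} with hL
    set N' := N.map π with hN'
    haveI : N'.Normal := Subgroup.Normal.map inferInstance π (QuotientGroup.mk'_surjective _)
    set η : L →* (C ⧸ MonoidHom.ker τ) ⧸ N' := (QuotientGroup.mk' N').comp L.subtype with hη
    have hrange : ∀ w : L, η w ∈ Subgroup.zpowers (QuotientGroup.mk' N' (π xx)) := by
      suffices L ≤ (Subgroup.zpowers (QuotientGroup.mk' N' (π xx))).comap
          (QuotientGroup.mk' N') from fun w => this w.2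
      refine (Subgroup.closure_le _).2 fun w hw => ?_
      induction w using QuotientGroup.induction_on with
      | _ w =>
        obtain ⟨w', hw', he⟩ := exists_pel_preimage π (g := w) (isPel_of_pow_p hw)
        obtain ⟨i, hi⟩ := hmem w' hw'
        refine ⟨i, ?_⟩
        show (QuotientGroup.mk' N' (π xx)) ^ i = QuotientGroup.mk' N' (π w)
        rw [← he, ← map_zpow, ← map_zpow]
        exact QuotientGroup.eq.2 ⟨(xx ^ i)⁻¹ * w', hi, by rw [map_mul, map_inv]⟩
    have hker : commutator L ≤ MonoidHom.ker η := by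
      rw [commutator_def, Subgroup.commutator_le]
      intro s _ t _
      rw [MonoidHom.mem_ker, map_commutatorElement, commutatorElement_eq_one_iff_mul_comm]
      obtain ⟨i, hi⟩ := hrange s
      obtain ⟨j, hj⟩ := hrange t
      rw [← hi, ← hj]
      exact zpow_mul_comm _ i j
    rw [H15.PSubTwo.commutator_eq_top_of_lin hl] at hker
    have hxL : π xx ∈ L := Subgroup.subset_closure (by
      show π xx ^ p = 1
      rw [← map_pow, hpw, map_one])
    obtain ⟨n, hn, hne⟩ : π xx ∈ N' :=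
      (QuotientGroup.eq_one_iff _).1 (hker (Subgroup.mem_top ⟨π xx, hxL⟩))
    have h1 : orderOf (π xx) = p := orderOf_eq_prime (by rw [← map_pow, hpw, map_one]) hπx
    rw [← hne] at h1
    exact hNp (h1 ▸ (orderOf_map_dvd π n).trans (Subgroup.orderOf_dvd_natCard N hn))
  have hfix : ∀ w ∈ W, ρ x w = w := (res_eq_one_iff hW).1 hxW
  -- eigenspaces of `x` for eigenvalues other than one
  have hline : ∀ c : ℂ, c ≠ 1 → eig ρ x c ≤ U := by
    intro c hc v hv
    have hv' : v ∈ U ⊔ W := hUW.sup_eq_top ▸ Submodule.mem_top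
    obtain ⟨u, hu, w, hw, rfl⟩ := Submodule.mem_sup.1 hv'
    have h1 := mem_eig.1 hv
    rw [map_add, hfix w hw, smul_add] at h1
    have h2 : ρ x u - c • u = (c - 1) • w := by
      rw [sub_smul, one_smul, sub_eq_sub_iff_add_eq_add, h1, add_comm]
    have h3 : (c - 1) • w ∈ U ⊓ W :=
      ⟨h2 ▸ U.sub_mem (hU xx u hu) (U.smul_mem c hu), W.smul_mem _ hw⟩
    rw [hUW.inf_eq_bot, Submodule.mem_bot, smul_eq_zero, sub_eq_zero] at h3
    rw [h3.resolve_left hc, add_zero]
    exact hu
  have hone : ∀ c : ℂ, c ≠ 1 → finrank ℂ (eig ρ x c) ≤ 1 := by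
    intro c hc
    have h1 : finrank ℂ (eig τ xx c) ≤ 1 := hs1 c
    rw [hτ, finrank_eig_res hU xx c] at h1
    refine le_trans (Submodule.finrank_mono (le_inf (le_refl (eig ρ x c)) (hline c hc))) h1
  -- so `g` centralises `A`
  have hgx : g * x = x * g :=
    (Subgroup.mem_centralizer_singleton_iff.1 hx.1).symm
  have hAx : (A : Subgroup G) ≤ Subgroup.zpowers x := by
    intro h hh
    have hhx : h * x = x * h := sylow_commute hf hd A h hh x hx.2
    set h1 := (h * g)⁻¹ * (g * h) with hh1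
    have hm : h1 ∈ (A : Subgroup G) := by
      rw [show h1 = (g⁻¹ * h⁻¹ * g⁻¹⁻¹) * h by rw [hh1]; group]
      refine mul_mem (mem_of_commute hf hd hB hnn hp5 hx.2 hxZ
        ((pel_inv (isPel_of_mem A.isPGroup' hh)).conj g⁻¹) ?_) hh
      exact (((show Commute g x from hgx).inv_left.mul_left
        (show Commute h x from hhx).inv_left).mul_left
          (show Commute g x from hgx).inv_left.inv_left :)
    have hF : ∀ c : ℂ, c ≠ 1 → eig ρ x c ≤ eig ρ h1 1 := fun c hc v hv => by
      refine mem_eig.2 ?_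
      rw [one_smul, hh1, map_mul, Module.End.mul_apply, commute_on_line hgx hhx (hone c hc) hv,
        ← Module.End.mul_apply, ← map_mul, inv_mul_cancel, map_one, Module.End.one_apply]
    have hUF : U ≤ eig ρ h1 1 ⊔ (eig ρ x 1 ⊓ U) := by
      have h2 : (⊤ : Submodule ℂ U) ≤ (eig ρ h1 1 ⊔ (eig ρ x 1 ⊓ U)).comap U.subtype := by
        rw [← iSup_eig τ xx]
        refine iSup_le fun c v hv => ?_
        have hv' : (v : V) ∈ eig ρ x c := mem_eig.2 (congrArg Subtype.val (mem_eig.1 hv))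
        by_cases hc : c = 1
        · subst hc
          exact Submodule.mem_sup_right ⟨hv', v.2⟩
        · exact Submodule.mem_sup_left (hF c hc hv')
      exact fun v hv => h2 (Submodule.mem_top : (⟨v, hv⟩ : U) ∈ ⊤)
    have h3 := (Submodule.finrank_mono hUF).trans
      (Submodule.finrank_add_le_finrank_add_finrank _ _)
    have h4 : finrank ℂ (eig (lift τ (MonoidHom.ker τ) fun _ hk => hk) (π xx) 1) =
        finrank ℂ ↥(eig ρ x 1 ⊓ U) := finrank_eig_res hU xx 1
    rw [h4] at hs2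
    have h5 : h1 = 1 := hdet _ (mem_center_of_big_eig hf hd hB hnn hp5
      (isPel_of_mem A.isPGroup' hm) (c := 1) (by omega)) (isPel_of_mem A.isPGroup' hm)
    rw [hh1, inv_mul_eq_one] at h5
    have hhC : h ∈ C := Subgroup.mem_centralizer_singleton_iff.2 h5
    obtain ⟨i, hi⟩ := hcyc ⟨h, hhC⟩ (isPel_coe_iff.1 (isPel_of_mem A.isPGroup' hh))
      (Subtype.ext hhx)
    exact ⟨i, congrArg Subtype.val hi⟩
  refine hP ?_
  have hord : orderOf x = p := orderOf_eq_prime (congrArg Subtype.val hpw) hx1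
  rw [P.card_eq_multiplicity, ← A.card_eq_multiplicity,
    le_antisymm hAx (Subgroup.zpowers_le.2 hx.2), Nat.card_zpowers, hord]

include hf hd hB hnn hp5 hdet in
/-- The Sylow subgroup has order `p`. -/
theorem card_sylow : Nat.card P = p := by
  classical
  letI : Fintype G := Fintype.ofFinite G
  haveI : Fintype (P : Subgroup G) := Fintype.ofFinite _
  obtain ⟨x, hxP, hx1⟩ : ∃ x ∈ (P : Subgroup G), x ≠ 1 := by
    by_contra hno
    push Not at hno
    exact hnn ⟨fun y hy g => by rw [hno y hy, mul_one, mul_inv_cancel]; exact one_mem _⟩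
  by_cases hL : pGen p G = ⊤
  swap
  · set L := pGen p G with hLdef
    haveI := gen_irr hf hd hB hnn
    have hPL : (P : Subgroup G) ≤ L := fun x hx =>
      Subgroup.subset_closure (isPel_of_mem P.isPGroup' hx)
    have hPn : ¬ ((P.subtype hPL : Sylow p L) : Subgroup L).Normal := fun hN =>
      hnn (normal_of_forall_mem fun x hx =>
        mem_of_normal hN (x := (⟨x, Subgroup.subset_closure hx⟩ : L)) (isPel_coe_iff.1 hx))
    have hgood := hB L V (ρ.comp L.subtype)
      (lt_of_le_of_ne (Subgroup.card_le_card_group L) fun he => hL (Subgroup.eq_top_of_card_eq _ he))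
      inferInstance (fun a ha => Subtype.ext (hf _ ha)) hd _ hPn
    have hcen : ∀ z : L, z ∈ Subgroup.center L → (z : G) ∈ Subgroup.center G := fun z hz => by
      obtain ⟨c, hc⟩ := exists_eig_top (ρ.comp L.subtype) (Subgroup.mem_center_iff.1 hz)
      exact mem_center_of_eig_top hf hc
    let x' : L := ⟨x, hPL hxP⟩
    have hxp : IsPel p x' := isPel_coe_iff.1 (isPel_of_mem P.isPGroup' hxP)
    have hxc : x' ∉ Subgroup.center L := fun h =>
      hx1 (hdet x (hcen x' h) (isPel_of_mem P.isPGroup' hxP))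
    have hpw : x ^ p = 1 := hdet _ (hcen _ (hgood.pow_mem x' hxp))
      ((isPel_of_mem P.isPGroup' hxP).pow p)
    have hle : (P : Subgroup G) ≤ Subgroup.zpowers x := by
      intro y hy
      obtain ⟨i, hi⟩ := hgood.cyclic x' ⟨y, hPL hy⟩ hxp
        (isPel_coe_iff.1 (isPel_of_mem P.isPGroup' hy))
        (Subtype.ext (sylow_commute hf hd P x hxP y hy)) hxc
      have h1 : (x ^ i)⁻¹ * y = 1 := hdet _ (hcen _ hi) (isPel_of_mem P.isPGroup'
        (mul_mem (inv_mem (zpow_mem hxP i)) hy))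
      exact ⟨i, inv_mul_eq_one.1 h1⟩
    rw [le_antisymm hle (Subgroup.zpowers_le.2 hxP), Nat.card_zpowers]
    exact orderOf_eq_prime hpw hx1
  by_contra hP
  have hhmax : ∀ M : Subgroup G, M.Normal → (P : Subgroup G) ≤ M → M = ⊤ := by
    intro M hM hPM
    refine top_le_iff.1 (hL ▸ (Subgroup.closure_le _).2 fun y hy => ?_)
    obtain ⟨R, hR⟩ := IsPel.exists_sylow hy
    obtain ⟨t, ht⟩ := MulAction.exists_smul_eq G P R
    rw [← ht, Sylow.coe_subgroup_smul] at hR
    obtain ⟨w, hw, rfl⟩ := hR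
    exact hM.conj_mem w (hPM hw) t
  have hPZ : (P : Subgroup G) ⊓ Subgroup.center G = ⊥ :=
    (Subgroup.eq_bot_iff_forall _).2 fun z hz => hdet z hz.2 (isPel_of_mem P.isPGroup' hz.1)
  have hne : ρ.character 1 ≠ 1 := by
    intro h1
    rw [Representation.char_one, Nat.cast_eq_one] at h1
    refine hx1 (hdet x ?_ (isPel_of_mem P.isPGroup' hxP))
    obtain ⟨v, hv, hspan⟩ := finrank_eq_one_iff'.1 h1
    obtain ⟨c, hc⟩ := hspan (ρ x v)
    refine mem_center_of_scalar hf (c := c) fun w => ?_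
    obtain ⟨a, rfl⟩ := hspan w
    rw [map_smul, ← hc, smul_comm]
  have h1 := H14.FTBound.card_lt_sq (P : Subgroup G) (sylow_commute hf hd P) hPZ
    (sep hf hd hB hnn hp5 hdet hP) (H12.isIrrCharacter_character ρ) hne hhmax
  rw [Representation.char_one, Complex.natCast_re] at h1
  have h2 : Nat.card (P : Subgroup G) < (1 + finrank ℂ V) ^ 2 := by exact_mod_cast h1
  obtain ⟨e, he⟩ := IsPGroup.iff_card.1 P.isPGroup'
  have he0 : e ≠ 0 := fun h0 => hx1 (Subgroup.mem_bot.1
    (Subgroup.card_eq_one.1 (by rw [he, h0, pow_zero] : Nat.card (P : Subgroup G) = 1) ▸ hxP))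
  have he1 : e ≠ 1 := fun h0 => hP (by
    show Nat.card (P : Subgroup G) = p
    rw [he, h0, pow_one])
  have h3 : p ^ 2 ≤ p ^ e := Nat.pow_le_pow_right hp.out.pos (by omega)
  have h4 : (1 + finrank ℂ V) ^ 2 < p ^ 2 := Nat.pow_lt_pow_left (by omega) two_ne_zero
  omega

end Step

/-- The twisted group. -/
theorem exists_quotient (hp5 : 5 < p) (N : ℕ) (hB : Below.{u} p N) (hN : Nat.card G ≤ N)
    (ρ : Representation ℂ G V) [ρ.IsIrreducible] (hf : ∀ g, ρ g = 1 → g = 1)
    (hd : finrank ℂ V + 2 ≤ p) (P : Sylow p G) (hnn : ¬ (P : Subgroup G).Normal) :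
    ∃ (l : G →* ℂˣ) (K : Subgroup G) (_ : K.Normal) (hK : ∀ k ∈ K, twistRep l ρ k = 1),
      (lift (twistRep l ρ) K hK).IsIrreducible ∧
      (∀ g, lift (twistRep l ρ) K hK g = 1 → g = 1) ∧ K ≤ Subgroup.center G ∧
      (∀ g : G, (g : G ⧸ K) ∈ Subgroup.center (G ⧸ K) ↔ g ∈ Subgroup.center G) ∧
      ∃ P' : Sylow p (G ⧸ K), Nat.card P' = p ∧ ¬ (P' : Subgroup (G ⧸ K)).Normal := by
  obtain ⟨l, K, hKn, hK, hirr, hf', hKZ, hcen, hdet, hnn'⟩ := twist_basic hd ρ hf P hnn
  haveI := hirr
  exact ⟨l, K, hKn, hK, hirr, hf', hKZ, hcen, _, card_sylow (ρ := lift (twistRep l ρ) K hK) hf' hd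
    (fun A _ _ W _ _ _ τ hA => hB A W τ (hA.trans_le ((card_quot_le K).trans hN))) hnn' hp5 hdet,
    hnn'⟩

/-- The spectral facts hold for all groups. -/
theorem good_aux (hp5 : 5 < p) (N : ℕ) : ∀ (A : Type u) [Group A] [Finite A] (W : Type)
    [AddCommGroup W] [Module ℂ W] [FiniteDimensional ℂ W] (τ : Representation ℂ A W),
    Nat.card A = N → τ.IsIrreducible → (∀ a, τ a = 1 → a = 1) → finrank ℂ W + 2 ≤ p →
    ∀ Q : Sylow p A, ¬ (Q : Subgroup A).Normal → Good p τ := by
  induction N using Nat.strong_induction_on with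
  | _ N ih =>
    intro A _ _ W _ _ _ ρ hA hirr hf hd P hnn
    haveI := hirr
    obtain ⟨l, K, hKn, hK, hirr', hf', hKZ, hcen, P', hP'c, hP'n⟩ := exists_quotient hp5 N
      (fun A' _ _ W' _ _ _ τ' hA' => ih _ hA' A' W' τ' rfl) hA.le ρ hf hd P hnn
    haveI := hirr'
    set σ := lift (twistRep l ρ) K hK with hσ
    obtain ⟨-, hbig, hspec⟩ := one_facts_five hp5 P' hP'c hP'n σ hf' (by omega)
    have hsyl : ∀ R : Sylow p (A ⧸ K), Nat.card R = p := fun R => by
      rw [R.card_eq_multiplicity, ← P'.card_eq_multiplicity, hP'c]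
    refine ⟨hbig, ?_, ?_, ?_⟩
    · intro x hx hxZ c
      have hx' : (x : A ⧸ K) ≠ 1 := fun h => hxZ ((hcen x).1 (h ▸ one_mem _))
      have h1 := (hspec _ (hx.map (QuotientGroup.mk' K)) hx').1 (((l x⁻¹ : ℂˣ) : ℂ) * c)
      have he : eig σ (x : A ⧸ K) (((l x⁻¹ : ℂˣ) : ℂ) * c) = eig ρ x c := by
        ext v
        rw [mem_eig, mem_eig, mul_smul]
        show ((l x⁻¹ : ℂˣ) : ℂ) • ρ x v = _ ↔ _
        exact (smul_right_injective W (Units.ne_zero _)).eq_iff
      exact (LinearEquiv.ofEq _ _ he).finrank_eq ▸ h1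
    · intro x hx
      obtain ⟨R, hR⟩ := (hx.map (QuotientGroup.mk' K)).exists_sylow
      have h1 := pow_card_eq_one' (x := (⟨_, hR⟩ : (R : Subgroup (A ⧸ K))))
      rw [show Nat.card (R : Subgroup (A ⧸ K)) = p from hsyl R] at h1
      refine hKZ ((QuotientGroup.eq_one_iff _).1 ?_)
      rw [QuotientGroup.mk_pow]
      exact congrArg Subtype.val h1
    · intro x y hx hy hxy hxZ
      have hx' : (x : A ⧸ K) ≠ 1 := fun h => hxZ ((hcen x).1 (h ▸ one_mem _))
      obtain ⟨R, hR⟩ := (hx.map (QuotientGroup.mk' K)).exists_sylow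
      have hRz : Subgroup.zpowers (x : A ⧸ K) = R := by
        refine Subgroup.eq_of_le_of_card_ge (Subgroup.zpowers_le.2 hR) ?_
        have h1 := pow_card_eq_one' (x := (⟨_, hR⟩ : (R : Subgroup (A ⧸ K))))
        rw [show Nat.card (R : Subgroup (A ⧸ K)) = p from hsyl R] at h1
        have h1' : (x : A ⧸ K) ^ p = 1 := congrArg Subtype.val h1
        rw [hsyl R, Nat.card_zpowers, orderOf_eq_prime h1' hx']
      obtain ⟨T, hT⟩ : ∃ T : Sylow p (A ⧸ K), Subgroup.zpowers (x : A ⧸ K) ⊔
          Subgroup.zpowers (y : A ⧸ K) ≤ (T : Subgroup (A ⧸ K)) := by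
        refine IsPGroup.exists_le_sylow ?_
        refine IsPGroup.to_sup_of_normal_right' (hx.map (QuotientGroup.mk' K)).zpowers
          (hy.map (QuotientGroup.mk' K)).zpowers ?_
        rw [Subgroup.zpowers_le, Subgroup.mem_normalizer_iff]
        intro h
        have hc : Commute (x : A ⧸ K) (y : A ⧸ K) := congrArg (QuotientGroup.mk' K) hxy
        constructor
        · rintro ⟨i, rfl⟩
          exact ⟨i, (mul_inv_eq_iff_eq_mul.2 (hc.zpow_right i).eq).symm⟩
        · intro hh
          obtain ⟨i, hi⟩ := hh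
          refine ⟨i, ?_⟩
          have h2 : h = (x : A ⧸ K)⁻¹ * ((y : A ⧸ K) ^ i) * (x : A ⧸ K) := by
            rw [show (y : A ⧸ K) ^ i = (x : A ⧸ K) * h * (x : A ⧸ K)⁻¹ from hi]; group
          rw [h2, mul_assoc, ← (hc.zpow_right i).eq, inv_mul_cancel_left]
      have hTz : Subgroup.zpowers (x : A ⧸ K) = T := by
        refine Subgroup.eq_of_le_of_card_ge (le_sup_left.trans hT) ?_
        rw [hRz, hsyl, hsyl]
      have h2 : (y : A ⧸ K) ∈ Subgroup.zpowers (x : A ⧸ K) :=
        hTz ▸ hT (Subgroup.mem_sup_right (Subgroup.mem_zpowers _))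
      obtain ⟨i, hi⟩ := h2
      refine ⟨i, hKZ ((QuotientGroup.eq_one_iff _).1 ?_)⟩
      rw [QuotientGroup.mk_mul, QuotientGroup.mk_inv, QuotientGroup.mk_zpow,
        show (x : A ⧸ K) ^ i = (y : A ⧸ K) from hi, inv_mul_cancel]

/-- **The reduction.** A faithful irreducible character of degree at most `p - 3` of a group with
a non-normal Sylow subgroup lives, after a twist, on a central quotient whose Sylow subgroup has
order `p`. -/
theorem exists_reduced (hp5 : 5 < p) (P : Sylow p G) (hnn : ¬ (P : Subgroup G).Normal)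
    (χ : G → ℂ) (hχ : IsIrrCharacter G χ) (hfaith : ∀ g : G, χ g = χ 1 → g = 1)
    (hd : H12.degree χ + 2 ≤ p) :
    ∃ (K : Subgroup G) (_ : K.Normal), K ≤ Subgroup.center G ∧
      Nonempty ((G ⧸ K) ⧸ Subgroup.center (G ⧸ K) ≃* G ⧸ Subgroup.center G) ∧
      ∃ P' : Sylow p (G ⧸ K), Nat.card P' = p ∧ ¬ (P' : Subgroup (G ⧸ K)).Normal ∧
        ∃ ζ : G ⧸ K → ℂ, IsIrrCharacter (G ⧸ K) ζ ∧ (∀ g, ζ g = ζ 1 → g = 1) ∧
          H12.degree ζ = H12.degree χ := by
  classical
  obtain ⟨n, ρ, hρ, rfl⟩ := hχ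
  haveI := hρ
  rw [H12.degree_character] at hd
  have hf : ∀ g, ρ g = 1 → g = 1 := fun g hg => hfaith g (by
    simp [Representation.character, hg])
  obtain ⟨l, K, hKn, hK, hirr, hf', hKZ, hcen, P', hP'c, hP'n⟩ := exists_quotient hp5 (Nat.card G)
    (fun A _ _ W _ _ _ τ _ => good_aux hp5 _ A W τ rfl) le_rfl ρ hf hd P hnn
  haveI := hirr
  refine ⟨K, hKn, hKZ, ?_, P', hP'c, hP'n, (lift (twistRep l ρ) K hK).character,
    H12.isIrrCharacter_character _,
    fun g hg => hf' g ((H12.character_eq_finrank_iff _ g).1 (by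
      simpa [Representation.char_one] using hg)),
    by rw [H12.degree_character, H12.degree_character]⟩
  set φ := (QuotientGroup.mk' (Subgroup.center (G ⧸ K))).comp (QuotientGroup.mk' K) with hφ
  have hker : MonoidHom.ker φ = Subgroup.center G := by
    ext g
    rw [MonoidHom.mem_ker, hφ, MonoidHom.comp_apply]
    exact (QuotientGroup.eq_one_iff _).trans (hcen g)
  exact ⟨((QuotientGroup.quotientMulEquivOfEq hker.symm).trans
    (QuotientGroup.quotientKerEquivOfSurjective φ ((QuotientGroup.mk'_surjective _).comp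
      (QuotientGroup.mk'_surjective _)))).symm⟩

/-- The reduction, with the centre of the quotient described by membership. -/
theorem exists_reduced_mem (hp5 : 5 < p) (P : Sylow p G) (hnn : ¬ (P : Subgroup G).Normal)
    (χ : G → ℂ) (hχ : IsIrrCharacter G χ) (hfaith : ∀ g : G, χ g = χ 1 → g = 1)
    (hd : H12.degree χ + 2 ≤ p) :
    ∃ (K : Subgroup G) (_ : K.Normal), K ≤ Subgroup.center G ∧
      (∀ g : G, (g : G ⧸ K) ∈ Subgroup.center (G ⧸ K) → g ∈ Subgroup.center G) ∧
      ∃ P' : Sylow p (G ⧸ K), Nat.card P' = p ∧ ¬ (P' : Subgroup (G ⧸ K)).Normal ∧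
        ∃ ζ : G ⧸ K → ℂ, IsIrrCharacter (G ⧸ K) ζ ∧ (∀ g, ζ g = ζ 1 → g = 1) ∧
          H12.degree ζ = H12.degree χ := by
  classical
  obtain ⟨n, ρ, hρ, rfl⟩ := hχ
  haveI := hρ
  rw [H12.degree_character] at hd
  have hf : ∀ g, ρ g = 1 → g = 1 := fun g hg => hfaith g (by
    simp [Representation.character, hg])
  obtain ⟨l, K, hKn, hK, hirr, hf', hKZ, hcen, P', hP'c, hP'n⟩ := exists_quotient hp5 (Nat.card G)
    (fun A _ _ W _ _ _ τ _ => good_aux hp5 _ A W τ rfl) le_rfl ρ hf hd P hnn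
  haveI := hirr
  exact ⟨K, hKn, hKZ, fun g => (hcen g).1, P', hP'c, hP'n, (lift (twistRep l ρ) K hK).character,
    H12.isIrrCharacter_character _,
    fun g hg => hf' g ((H12.character_eq_finrank_iff _ g).1 (by
      simpa [Representation.char_one] using hg)),
    by rw [H12.degree_character, H12.degree_character]⟩

end H28.SmallDeg.Two
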